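import Groth.Agent.Lib.Helper2.RHom.TBase
import Groth.Agent.Lib.Helper2.Glue.Gen
import Groth.Agent.Lib.Helper2.Mon.TensorSymm
import Groth.Agent.Lib.Helper2.Stk.LpullAmp
import Groth.Agent.Lib.Helper2.Stk.Rpush
import Groth.Agent.Lib.Helper3.PbBasic
import Groth.Agent.Lib.Helper17.FlatStructure
import Groth.Agent.Lib.Helper17.LocFreeStage
import Groth.Agent.Lib.Helper13.PerfTri
import Groth.Agent.Lib.Helper2.Aff.AffReflect

/-!
# Detecting isomorphisms in `D_QCoh` by `Rf_* RHom(E, -)`, `E` perfect (helper2)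

On a qcqs scheme, `D_QCoh` has a perfect generator; hence a morphism `φ` in `D_QCoh` with
`Hom(W, φ)` bijective for all perfect `W` is an isomorphism.  And
`Hom(O_S, Rf_* RHom(E, F)) = Hom(E, F)`.
-/

set_option autoImplicit false
universe u
open CategoryTheory CategoryTheory.Limits AlgebraicGeometry HomologicalComplex

namespace Groth.Agent.Lib.Helper2.RHom

open Groth.Agent.Lib.Helper2.Stk Groth.Agent.Lib.Helper2.Stk.LT Groth.Agent.Lib.Helper2.Tot
  Groth.Agent.Lib.Helper2.LDer DerivedCategory Pretriangulated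

attribute [local instance] HasDerivedCategory.standard

local notation "cc" => ComplexShape.up ℤ

section Abstract

lemma bijective_comp_of_iso {C : Type*} [Category C] {W W' F G : C} (e : W ≅ W') (φ : F ⟶ G)
    (h : Function.Bijective (fun ψ : W ⟶ F => ψ ≫ φ)) :
    Function.Bijective (fun ψ : W' ⟶ F => ψ ≫ φ) := by
  constructor
  · intro a b hab
    dsimp only at hab
    have := h.1 (a₁ := e.hom ≫ a) (a₂ := e.hom ≫ b)
      (by dsimp only; rw [Category.assoc, Category.assoc, hab])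
    exact (cancel_epi e.hom).1 this
  · intro β
    obtain ⟨ψ, hψ⟩ := h.2 (e.hom ≫ β)
    refine ⟨e.inv ≫ ψ, ?_⟩
    dsimp only at hψ ⊢
    rw [Category.assoc, hψ, Iso.inv_hom_id_assoc]

variable {X : Scheme.{u}}

/-- on a qcqs scheme, a morphism of `D_QCoh` inducing bijections on `Hom(W, -)` for all perfect
`W` is an isomorphism -/
theorem isIso_of_bijective_perfect [CompactSpace X] [QuasiSeparatedSpace X]
    {F G : DCoh.D X} (hF : DCoh.IsQCohD F) (hG : DCoh.IsQCohD G) (φ : F ⟶ G)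
    (h : ∀ W : DCoh.D X, DCoh.IsPerfect W → Function.Bijective (fun ψ : W ⟶ F => ψ ≫ φ)) :
    IsIso φ := by
  obtain ⟨C, g, δ, hT⟩ := Pretriangulated.distinguished_cocone_triangle φ
  have hC : DCoh.IsQCohD C := Aff.AffPush.isQCohD_of_distTriang _ hT hF hG
  obtain ⟨P, hP, hgen⟩ := Glue.hasGen_qcqs X
  have hC0 : IsZero C := by
    refine hgen C hC (fun n α => ?_)
    have hW : DCoh.IsPerfect (P⟦n⟧) := Helper13.PerfTri.isPerfect_shift P n hP
    have hW' : DCoh.IsPerfect ((P⟦n⟧)⟦(-1 : ℤ)⟧) := Helper13.PerfTri.isPerfect_shift _ _ hW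
    have h31 : δ ≫ φ⟦(1 : ℤ)⟧' = 0 := comp_distTriang_mor_zero₃₁ _ hT
    have h12 : φ ≫ g = 0 := comp_distTriang_mor_zero₁₂ _ hT
    have h1 : α ≫ δ = 0 := by
      let e : ((P⟦n⟧)⟦(-1 : ℤ)⟧)⟦(1 : ℤ)⟧ ≅ P⟦n⟧ :=
        (shiftEquiv (DCoh.D X) (1 : ℤ)).counitIso.app _
      obtain ⟨ψ', hψ'⟩ := (shiftFunctor (DCoh.D X) (1 : ℤ)).map_surjective (e.hom ≫ α ≫ δ)
      have h2 : ψ' ≫ φ = 0 := by
        apply (shiftFunctor (DCoh.D X) (1 : ℤ)).map_injective
        rw [Functor.map_comp, hψ', Functor.map_zero, Category.assoc, Category.assoc, h31,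
          comp_zero, comp_zero]
      have h3 : ψ' = 0 := (h _ hW').1 (by simp only [h2, zero_comp])
      rw [h3, Functor.map_zero] at hψ'
      rw [← cancel_epi e.hom, ← hψ', comp_zero]
    obtain ⟨β, hβ⟩ := Triangle.coyoneda_exact₃ _ hT α h1
    let β' : P⟦n⟧ ⟶ G := β
    have hβ' : α = β' ≫ g := hβ
    obtain ⟨γ, hγ⟩ := (h _ hW).2 β'
    have hγ' : γ ≫ φ = β' := hγ
    calc α = β' ≫ g := hβ'
      _ = (γ ≫ φ) ≫ g := by rw [hγ']
      _ = 0 := by rw [Category.assoc, h12, comp_zero]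
  exact (Triangle.isZero₃_iff_isIso₁ _ hT).1 hC0

end Abstract

section Unit

/-- the structure sheaf is flat -/
theorem isFlat_unit (X : Scheme.{u}) : FlatMod.IsFlat (ModSite.unit X.sheaf : X.Modules) :=
  (Helper17.LocFreeStage.isFlatOver_iff_isFlat (𝟙 X) _).1
    ((Helper17.FlatStructure.flat_iff_isFlatOver (𝟙 X)).1 inferInstance)

theorem kflat_sgl_unit (X : Scheme.{u}) :
    KFlat (DCoh.tensorBi (X := X)) (sgl (ModSite.unit X.sheaf)) := by
  have : (sgl (ModSite.unit X.sheaf) : CochainComplex X.Modules ℤ).IsStrictlyLE 0 :=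
    inferInstance
  refine Stk.kflat_of_isStrictlyLE _ 0 (fun n => ?_)
  by_cases hn : n = 0
  · subst hn
    exact StalkFlat.isFlat_of_iso (singleObjXSelf cc 0 _).symm (isFlat_unit X)
  · exact DC.isFlat_of_isZero (isZero_single_obj_X cc 0 _ n hn)

variable {X : Scheme.{u}}

/-- `O_X ⊗^L E ≅ E` -/
noncomputable def unitTensorIso (E : CochainComplex X.Modules ℤ) [DCoh.HasLTensorCx E] :
    (DCoh.LTensorCx E).obj (DCoh.toD X (sgl (ModSite.unit X.sheaf))) ≅ DCoh.toD X E :=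
  LT.LTensorCxIso E (sgl (ModSite.unit X.sheaf))
      ((Mon.good_iff_kflat _).2 (kflat_sgl_unit X)) ≪≫
    DerivedCategory.Q.mapIso (Mon.symmCxIso E (sgl (ModSite.unit X.sheaf)) ≪≫
      (unitChainIso.app E).symm)

/-- `Lf^* O_S ≅ O_X` -/
noncomputable def LpullUnitIso {X S : Scheme.{u}} (f : X ⟶ S) [DCoh.HasLpull f] :
    (DCoh.Lpull f).obj (DCoh.toD S (sgl (ModSite.unit S.sheaf))) ≅
      DCoh.toD X (sgl (ModSite.unit X.sheaf)) :=
  Stk.LpullIso f _ (kflat_sgl_unit S) ≪≫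
    DerivedCategory.Q.mapIso
      ((HomologicalComplex.singleMapHomologicalComplex (Scheme.Modules.pullback f) cc 0).app _ ≪≫
        (HomologicalComplex.single _ cc 0).mapIso (Helper3.PbBasic.pbUnit f))

/-- `Hom(E, F) = Hom(O_S, Rf_* RHom(E, F))`: if `Rf_* RHom(E, φ)` is an isomorphism, then
`Hom(E, φ)` is bijective -/
theorem bijective_of_isIso {X S : Scheme.{u}} (f : X ⟶ S) [DCoh.HasRpush f]
    (E : CochainComplex X.Modules ℤ) [DCoh.HasLTensorCx E] [DCoh.HasRSheafHom E]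
    {F G : DCoh.D X} (φ : F ⟶ G)
    (h : IsIso ((DCoh.Rpush f).map ((DCoh.RSheafHom E).map φ))) :
    Function.Bijective (fun ψ : DCoh.toD X E ⟶ F => ψ ≫ φ) := by
  have := Stk.hasLpull f
  let adj := (Stk.LpullRpushAdj f).comp (DCoh.RSheafHomAdj E)
  let U : DCoh.D S := DCoh.toD S (sgl (ModSite.unit S.sheaf))
  let e : (DCoh.Lpull f ⋙ DCoh.LTensorCx E).obj U ≅ DCoh.toD X E :=
    (DCoh.LTensorCx E).mapIso (LpullUnitIso f) ≪≫ unitTensorIso E
  have key : ∀ ψ : DCoh.toD X E ⟶ F, adj.homEquiv U G (e.hom ≫ ψ ≫ φ) =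
      adj.homEquiv U F (e.hom ≫ ψ) ≫ (DCoh.Rpush f).map ((DCoh.RSheafHom E).map φ) := by
    intro ψ
    rw [← Category.assoc, Adjunction.homEquiv_naturality_right]
    rfl
  constructor
  · intro ψ₁ ψ₂ h12
    dsimp only at h12
    have h0 : adj.homEquiv U G (e.hom ≫ ψ₁ ≫ φ) = adj.homEquiv U G (e.hom ≫ ψ₂ ≫ φ) := by
      rw [h12]
    rw [key, key] at h0
    have h' := (cancel_mono _).1 h0
    have h'' := (adj.homEquiv U F).injective h'
    exact (cancel_epi e.hom).1 h''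
  · intro β
    refine ⟨e.inv ≫ (adj.homEquiv U F).symm (adj.homEquiv U G (e.hom ≫ β) ≫
      inv ((DCoh.Rpush f).map ((DCoh.RSheafHom E).map φ))), ?_⟩
    dsimp only
    rw [← cancel_epi e.hom]
    apply (adj.homEquiv U G).injective
    rw [key, Iso.hom_inv_id_assoc, Equiv.apply_symm_apply, Category.assoc, IsIso.inv_hom_id,
      Category.comp_id]

end Unit

/-- the generator argument: `Rf_* RHom(E, φ)` iso for all perfect `E` forces `φ` iso -/
theorem isIso_of_forall_perfect {X S : Scheme.{u}} [CompactSpace X] [QuasiSeparatedSpace X]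
    (f : X ⟶ S) [DCoh.HasRpush f]
    [hT : ∀ F : CochainComplex X.Modules ℤ, DCoh.HasLTensorCx F]
    [hR : ∀ F : CochainComplex X.Modules ℤ, DCoh.HasRSheafHom F]
    {F G : DCoh.D X} (hF : DCoh.IsQCohD F) (hG : DCoh.IsQCohD G) (φ : F ⟶ G)
    (h : ∀ (E : CochainComplex X.Modules ℤ), DCoh.IsPerfect (DCoh.toD X E) →
      IsIso ((DCoh.Rpush f).map ((DCoh.RSheafHom E).map φ))) :
    IsIso φ := by
  refine isIso_of_bijective_perfect hF hG φ (fun W hW => ?_)
  let E' := DerivedCategory.Q.objPreimage W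
  let e : DCoh.toD X E' ≅ W := DerivedCategory.Q.objObjPreimageIso W
  exact bijective_comp_of_iso e φ
    (bijective_of_isIso f E' φ (h E' (Helper13.PerfTri.isPerfect_of_iso e.symm hW)))

end Groth.Agent.Lib.Helper2.RHom
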