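import Groth.Agent.Lib.Helper2.Mon.ProjClosed
import Groth.Agent.Lib.Helper13.RelPerf
import Groth.Agent.Lib.Helper2.Stk.Exact

/-!
# Relative tor amplitude of `F` from the flat amplitude of `i_* F`, `i` a closed immersion (helper2)
-/

set_option autoImplicit false
universe u
open CategoryTheory CategoryTheory.Limits AlgebraicGeometry TopologicalSpace Opposite

namespace Groth.Agent.Lib.Helper2.TorAmpPush

open Groth.Agent.Lib.Helper2.Stk Groth.Agent.Lib.Helper2.Mon

attribute [local instance] HasDerivedCategory.standard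

local notation "cc" => ComplexShape.up ℤ

section
variable {X X' Y : Scheme.{u}} (i : X ⟶ X') (f' : X' ⟶ Y) (x : X)

instance additive_stalkOver {X Y : Scheme.{u}} (f : X ⟶ Y) (x : X) :
    (DerSch.stalkOver f x).Additive :=
  inferInstanceAs (Φ x ⋙ ModuleCat.restrictScalars (f.stalkMap x).hom).Additive

instance pzm_stalkOver {X Y : Scheme.{u}} (f : X ⟶ Y) (x : X) :
    (DerSch.stalkOver f x).PreservesZeroMorphisms :=
  Functor.preservesZeroMorphisms_of_additive _

instance pfl_stalkOver {X Y : Scheme.{u}} (f : X ⟶ Y) (x : X) :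
    PreservesFiniteLimits (DerSch.stalkOver f x) :=
  inferInstanceAs (PreservesFiniteLimits (Φ x ⋙ ModuleCat.restrictScalars (f.stalkMap x).hom))

instance pfc_stalkOver {X Y : Scheme.{u}} (f : X ⟶ Y) (x : X) :
    PreservesFiniteColimits (DerSch.stalkOver f x) :=
  inferInstanceAs (PreservesFiniteColimits (Φ x ⋙ ModuleCat.restrictScalars (f.stalkMap x).hom))

lemma stalkMap_comp_hom :
    ((i ≫ f').stalkMap x).hom = (i.stalkMap x).hom.comp (f'.stalkMap (i.base x)).hom := by
  rw [Scheme.Hom.stalkMap_comp]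
  rfl

/-- `i_* ⋙ (-)_{i x} ≅ (-)_x` over the local ring of `Y`, for a topological embedding `i` -/
noncomputable def pushStalkOverIso (hi : Topology.IsInducing i.base) :
    Scheme.Modules.pushforward i ⋙ DerSch.stalkOver f' (i.base x) ≅
      DerSch.stalkOver (i ≫ f') x :=
  (Functor.associator _ _ _).symm ≪≫
    Functor.isoWhiskerRight (pushStalkIso i x hi) _ ≪≫ Functor.associator _ _ _ ≪≫
    Functor.isoWhiskerLeft (Φ x)
      (ModuleCat.restrictScalarsComp' (f'.stalkMap (i.base x)).hom (i.stalkMap x).hom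
        ((i ≫ f').stalkMap x).hom (stalkMap_comp_hom i f' x)).symm

/-- **relative tor amplitude of `F` from the flat amplitude of `i_* F`** -/
theorem hasTorAmplitude_of_push [IsClosedImmersion i] [Flat f'] (F : CochainComplex X.Modules ℤ)
    (a b : ℤ)
    (hF : DCoh.HasFlatAmplitudeIn a b (DCoh.toD X'
      (((Scheme.Modules.pushforward i).mapHomologicalComplex cc).obj F))) :
    DerSch.HasTorAmplitude (i ≫ f') a b F := by
  intro x
  obtain ⟨E, hv, hfl, ⟨e⟩⟩ := hF
  let SO := DerSch.stalkOver f' (i.base x)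
  refine ⟨(DerSch.stalkCxOver f' (i.base x)).obj E, ?_, ?_, ?_⟩
  · intro n hn
    exact SO.map_isZero (hv n hn)
  · intro n
    exact Groth.Agent.Lib.Helper13.RelPerf.isFlatOverAt_of_isFlatAt f' (E.X n) (i.base x)
      (hfl n (i.base x)) (Flat.stalkMap f' (i.base x))
  · let e1 := (SO.mapDerivedCategoryFactors.app E).symm
    let e2 := SO.mapDerivedCategory.mapIso e
    let e3 := SO.mapDerivedCategoryFactors.app
      (((Scheme.Modules.pushforward i).mapHomologicalComplex cc).obj F)
    let e4 : (DerSch.stalkCxOver f' (i.base x)).obj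
        (((Scheme.Modules.pushforward i).mapHomologicalComplex cc).obj F) ≅
        (DerSch.stalkCxOver (i ≫ f') x).obj F :=
      HomologicalComplex.Hom.isoOfComponents
        (fun n => (pushStalkOverIso i f' x i.isClosedEmbedding.isInducing).app (F.X n))
        (fun n m _ => ((pushStalkOverIso i f' x i.isClosedEmbedding.isInducing).hom.naturality
          (F.d n m)).symm)
    exact ⟨e1 ≪≫ e2 ≪≫ e3 ≪≫ DerivedCategory.Q.mapIso e4⟩

end

end Groth.Agent.Lib.Helper2.TorAmpPush
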