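import Groth.Agent.Lib.Helper2.RHom.TBase
import Groth.Agent.Lib.Helper2.LDer.DCohFlat
import Groth.Agent.Lib.Helper2.Tot.Bounded

/-!
# t-exactness of `- ⊗^L K` and `RHom(K, -)` (helper2)

* `isLE_LTensorCx_obj` : `A ∈ D^{≤ p}`, `K ∈ D^{≤ q}` ⇒ `A ⊗^L K ∈ D^{≤ p + q}`;
* `isGE_RSheafHom_obj` : `K ∈ D^{≤ q}`, `L ∈ D^{≥ a}` ⇒ `RHom(K, L) ∈ D^{≥ a - q}`.
-/

set_option autoImplicit false
universe u
open CategoryTheory CategoryTheory.Limits AlgebraicGeometry HomologicalComplex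

namespace Groth.Agent.Lib.Helper2.RHom

open Groth.Agent.Lib.Helper2.Stk Groth.Agent.Lib.Helper2.Stk.LT Groth.Agent.Lib.Helper2.Tot
  Groth.Agent.Lib.Helper2.LDer DerivedCategory Pretriangulated

attribute [local instance] HasDerivedCategory.standard
attribute [local instance] Groth.Agent.Lib.Helper2.Stk.LT.hasLTensorCx
attribute [local instance] Groth.Agent.Lib.Helper2.RHom.hasRSheafHom

variable {X : Scheme.{u}}

theorem isLE_LTensorCx_obj (K : CochainComplex X.Modules ℤ) (q : ℤ)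
    (hK : (DCoh.toD X K).IsLE q) (A : DCoh.D X) (p : ℤ) (hA : A.IsLE p) :
    ((DCoh.LTensorCx K).obj A).IsLE (p + q) := by
  haveI : K.IsLE q := (DerivedCategory.isLE_Q_obj_iff K q).1 hK
  haveI := isIso_Tmap_of_quasiIso (K.ιTruncLE q)
  have e1 : (DCoh.LTensorCx (K.truncLE q)).obj A ≅ (DCoh.LTensorCx K).obj A :=
    (asIso (Tmap (K.ιTruncLE q))).app A
  let A₀ := (Q (C := X.Modules)).objPreimage A
  let e₀ : Q.obj A₀ ≅ A := (Q (C := X.Modules)).objObjPreimageIso A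
  haveI : (Q.obj A₀).IsLE p := TStructure.t.isLE_of_iso e₀.symm p
  haveI : A₀.IsLE p := (DerivedCategory.isLE_Q_obj_iff A₀ p).1 inferInstance
  obtain ⟨P, α, hP, hflat, hα⟩ := DC.exists_flat_resolution_of_isLE A₀ p
  haveI := hP
  haveI := hα
  have hgood : DC.Good P := DC.good_of_isStrictlyLE P p hflat
  haveI : IsIso (Q.map α) := (isIso_Q_map_iff_quasiIso _ α).2 hα
  have e2 : (DCoh.LTensorCx (K.truncLE q)).obj (Q.obj P) ≅ (DCoh.LTensorCx (K.truncLE q)).obj A :=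
    (DCoh.LTensorCx (K.truncLE q)).mapIso (asIso (Q.map α) ≪≫ e₀)
  haveI := isIso_counitT_app (K.truncLE q) P hgood
  have e3 : (DCoh.LTensorCx (K.truncLE q)).obj (Q.obj P) ≅
      Q.obj ((DCoh.tensorCx.obj P).obj (K.truncLE q)) := asIso ((counitT (K.truncLE q)).app P)
  haveI : ((DCoh.tensorCx.obj P).obj (K.truncLE q)).IsStrictlyLE (p + q) := by
    rw [CochainComplex.isStrictlyLE_iff]
    intro n hn
    exact isZero_tot_X (F := DCoh.tensorBi (X := X)) P (K.truncLE q) p q n hn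
  exact TStructure.t.isLE_of_iso (e3.symm ≪≫ e2 ≪≫ e1) (p + q)

theorem isGE_RSheafHom_obj (K : CochainComplex X.Modules ℤ) (q : ℤ)
    (hK : (DCoh.toD X K).IsLE q) (L : DCoh.D X) (a : ℤ) (hL : L.IsGE a) :
    ((DCoh.RSheafHom K).obj L).IsGE (a - q) := by
  refine (TStructure.t.isGE_iff_orthogonal (a - q - 1) (a - q) (by omega) _).2 ?_
  intro Y f hY
  apply ((DCoh.RSheafHomAdj K).homEquiv _ _).symm.injective
  rw [homEquiv_symm_zero]
  haveI : ((DCoh.LTensorCx K).obj Y).IsLE (a - q - 1 + q) := isLE_LTensorCx_obj K q hK Y _ hY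
  exact TStructure.t.zero_of_isLE_of_isGE _ (a - q - 1 + q) a (by omega) inferInstance hL

/-- vanishing of the cohomology sheaves of `RHom(K, L)` in low degrees -/
theorem isZero_HD_RSheafHom (K : CochainComplex X.Modules ℤ) (q : ℤ)
    (hK : (DCoh.toD X K).IsLE q) (L : DCoh.D X) (a : ℤ) (hL : L.IsGE a) (j : ℤ) (hj : j < a - q) :
    IsZero (DCoh.HD ((DCoh.RSheafHom K).obj L) j) := by
  haveI := isGE_RSheafHom_obj K q hK L a hL
  exact DerivedCategory.isZero_of_isGE _ (a - q) j hj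

end Groth.Agent.Lib.Helper2.RHom
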