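import Mathlib
import Groth.Agent.Lib.Helper2.Brown.DerivedGrothendieck

/-!
# Brown representability for arbitrary models of the derived category (helper2)

An additive endofunctor of (any model of) the derived category of a Grothendieck abelian category
which is exact on `Hom(-, Z)` along mapping cone sequences and preserves small coproducts is a
left adjoint.
-/

set_option autoImplicit false
universe w v u u'
open CategoryTheory CategoryTheory.Limits CategoryTheory.Pretriangulated Opposite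

namespace Groth.Agent.Lib.Helper2.RHom.BT

/-- a functor with pointwise universal arrows is a left adjoint -/
lemma isLeftAdjoint_of_universal {D : Type*} [Category D] {D' : Type*} [Category D']
    (F : D ⥤ D')
    (hF : ∀ Y : D', ∃ (X : D) (u : F.obj X ⟶ Y), ∀ W : D,
      Function.Bijective (fun f : W ⟶ X => F.map f ≫ u)) : F.IsLeftAdjoint := by
  choose G u hu using hF
  let e : ∀ W Y, (F.obj W ⟶ Y) ≃ (W ⟶ G Y) := fun W Y => (Equiv.ofBijective _ (hu Y W)).symm
  have he : ∀ W' W Y (f : W' ⟶ W) (g : F.obj W ⟶ Y), e W' Y (F.map f ≫ g) = f ≫ e W Y g := by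
    intro W' W Y f g
    apply (e W' Y).symm.injective
    rw [Equiv.symm_apply_apply]
    change F.map f ≫ g = F.map (f ≫ e W Y g) ≫ u Y
    have hg : F.map (e W Y g) ≫ u Y = g := (e W Y).symm_apply_apply g
    rw [Functor.map_comp, Category.assoc, hg]
  exact (Adjunction.adjunctionOfEquivRight e he).isLeftAdjoint

variable {A : Type u} [Category.{v} A] [Abelian A] [IsGrothendieckAbelian.{v} A]
  [HasDerivedCategory.{v} A]
  {𝒟 : Type u'} [Category.{w} 𝒟] [Preadditive 𝒟]
  (L₂ : CochainComplex A ℤ ⥤ 𝒟)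
  [L₂.IsLocalization (HomologicalComplex.quasiIso A (ComplexShape.up ℤ))]

open DerivedCategory

/-- the comparison equivalence -/
noncomputable def eqv : DerivedCategory A ≌ 𝒟 :=
  Localization.uniq (Q (C := A)) L₂ (HomologicalComplex.quasiIso A (ComplexShape.up ℤ))

/-- the comparison equivalence is compatible with the localization functors -/
noncomputable def γ : Q (C := A) ⋙ (eqv L₂).functor ≅ L₂ :=
  Localization.compUniqFunctor (Q (C := A)) L₂ (HomologicalComplex.quasiIso A (ComplexShape.up ℤ))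

instance : (eqv L₂).functor.Additive := by
  haveI : PreservesBinaryBiproducts (eqv L₂).functor :=
    preservesBinaryBiproducts_of_preservesBinaryProducts _
  exact Functor.additive_of_preservesBinaryBiproducts _

instance : (eqv L₂).inverse.Additive := inferInstance

variable (F : 𝒟 ⥤ 𝒟)

section

variable {L₂ F}
  (hex : ∀ {K L : CochainComplex A ℤ} (φ : K ⟶ L) (Z : 𝒟) (a : F.obj (L₂.obj L) ⟶ Z),
    F.map (L₂.map φ) ≫ a = 0 → ∃ b : F.obj (L₂.obj (CochainComplex.mappingCone φ)) ⟶ Z,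
      F.map (L₂.map (CochainComplex.mappingCone.inr φ)) ≫ b = a)

include hex in
lemma hex_G (T : Triangle (DerivedCategory A)) (hT : T ∈ distTriang (DerivedCategory A)) (Z : 𝒟)
    (a : F.obj ((eqv L₂).functor.obj T.obj₂) ⟶ Z)
    (ha : F.map ((eqv L₂).functor.map T.mor₁) ≫ a = 0) :
    ∃ b : F.obj ((eqv L₂).functor.obj T.obj₃) ⟶ Z,
      F.map ((eqv L₂).functor.map T.mor₂) ≫ b = a := by
  obtain ⟨K, L, φ, ⟨i⟩⟩ := (DerivedCategory.mem_distTriang_iff T).1 hT
  let e := eqv L₂
  -- components of the isomorphism of triangles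
  let j₁ : T.obj₁ ≅ Q.obj K := Triangle.π₁.mapIso i
  let j₂ : T.obj₂ ≅ Q.obj L := Triangle.π₂.mapIso i
  let j₃ : T.obj₃ ≅ Q.obj (CochainComplex.mappingCone φ) := Triangle.π₃.mapIso i
  have k₁ : T.mor₁ ≫ j₂.hom = j₁.hom ≫ Q.map φ := i.hom.comm₁
  have k₂ : T.mor₂ ≫ j₃.hom = j₂.hom ≫ Q.map (CochainComplex.mappingCone.inr φ) := i.hom.comm₂
  let θ₁ : e.functor.obj T.obj₁ ≅ L₂.obj K := e.functor.mapIso j₁ ≪≫ (γ L₂).app K
  let θ₂ : e.functor.obj T.obj₂ ≅ L₂.obj L := e.functor.mapIso j₂ ≪≫ (γ L₂).app L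
  let θ₃ : e.functor.obj T.obj₃ ≅ L₂.obj (CochainComplex.mappingCone φ) :=
    e.functor.mapIso j₃ ≪≫ (γ L₂).app _
  have n₁ : e.functor.map (Q.map φ) ≫ (γ L₂).hom.app L = (γ L₂).hom.app K ≫ L₂.map φ :=
    (γ L₂).hom.naturality φ
  have n₂ : e.functor.map (Q.map (CochainComplex.mappingCone.inr φ)) ≫ (γ L₂).hom.app _ =
      (γ L₂).hom.app L ≫ L₂.map (CochainComplex.mappingCone.inr φ) :=
    (γ L₂).hom.naturality (CochainComplex.mappingCone.inr φ)
  have c₁ : e.functor.map T.mor₁ ≫ θ₂.hom = θ₁.hom ≫ L₂.map φ := by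
    simp only [θ₁, θ₂, Iso.trans_hom, Functor.mapIso_hom, Iso.app_hom, Category.assoc]
    rw [← Functor.map_comp_assoc, k₁, Functor.map_comp_assoc, n₁]
  have c₂ : e.functor.map T.mor₂ ≫ θ₃.hom =
      θ₂.hom ≫ L₂.map (CochainComplex.mappingCone.inr φ) := by
    simp only [θ₂, θ₃, Iso.trans_hom, Functor.mapIso_hom, Iso.app_hom, Category.assoc]
    rw [← Functor.map_comp_assoc, k₂, Functor.map_comp_assoc, n₂]
  have h3 : L₂.map φ ≫ θ₂.inv = θ₁.inv ≫ e.functor.map T.mor₁ := by
    rw [← cancel_mono θ₂.hom, Category.assoc, Iso.inv_hom_id, Category.comp_id, Category.assoc,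
      c₁, Iso.inv_hom_id_assoc]
  have ha' : F.map (L₂.map φ) ≫ (F.map θ₂.inv ≫ a) = 0 := by
    rw [← Functor.map_comp_assoc, h3, Functor.map_comp_assoc, ha, comp_zero]
  obtain ⟨b', hb'⟩ := hex φ Z _ ha'
  refine ⟨F.map θ₃.hom ≫ b', ?_⟩
  rw [← Functor.map_comp_assoc, c₂, Functor.map_comp_assoc, hb', ← Functor.map_comp_assoc,
    Iso.hom_inv_id, CategoryTheory.Functor.map_id, Category.id_comp]

end

/-- the transported functor on the small model -/
noncomputable abbrev F₁ : DerivedCategory A ⥤ DerivedCategory A :=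
  (eqv L₂).functor ⋙ F ⋙ (eqv L₂).inverse

variable [F.Additive]

/-- the functor `W ↦ Hom(F₁ W, Y)` -/
noncomputable def cohFun
    (hex : ∀ {K L : CochainComplex A ℤ} (φ : K ⟶ L) (Z : 𝒟) (a : F.obj (L₂.obj L) ⟶ Z),
      F.map (L₂.map φ) ≫ a = 0 → ∃ b : F.obj (L₂.obj (CochainComplex.mappingCone φ)) ⟶ Z,
        F.map (L₂.map (CochainComplex.mappingCone.inr φ)) ≫ b = a)
    (hcop : ∀ κ : Type v, PreservesColimitsOfShape (Discrete κ) F) (Y : DerivedCategory A) :
    Brown.CohFun (DerivedCategory A) where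
  H := (F₁ L₂ F).op ⋙ preadditiveYoneda.obj Y
  additive := inferInstance
  exact T hT a ha := by
    let e := eqv L₂
    let adj := e.symm.toAdjunction
    change (F₁ L₂ F).obj T.obj₂ ⟶ Y at a
    change (F₁ L₂ F).map T.mor₁ ≫ a = 0 at ha
    have ha' : F.map (e.functor.map T.mor₁) ≫ adj.homEquiv _ _ a = 0 := by
      have h1 := adj.homEquiv_naturality_left (F.map (e.functor.map T.mor₁)) a
      have h2 : adj.homEquiv _ _ ((F₁ L₂ F).map T.mor₁ ≫ a) = 0 := by
        rw [ha]
        exact (adj.homEquiv _ _).symm.injective (by simp)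
      exact h1.symm.trans h2
    obtain ⟨b', hb'⟩ := hex_G hex T hT _ _ ha'
    refine ⟨(adj.homEquiv _ _).symm b', ?_⟩
    change (F₁ L₂ F).map T.mor₂ ≫ (adj.homEquiv _ _).symm b' = a
    apply (adj.homEquiv _ _).injective
    have h1 := adj.homEquiv_naturality_left (F.map (e.functor.map T.mor₂))
      ((adj.homEquiv _ _).symm b')
    refine h1.trans ?_
    rw [Equiv.apply_symm_apply]
    exact hb'
  prod {κ} X c hc := by
    haveI := hcop κ
    haveI : PreservesColimitsOfShape (Discrete κ) (eqv L₂).functor := inferInstance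
    haveI : PreservesColimitsOfShape (Discrete κ) (eqv L₂).inverse := inferInstance
    have hc' : IsColimit ((F₁ L₂ F).mapCocone c) := isColimitOfPreserves (F₁ L₂ F) hc
    constructor
    · intro a b hab
      exact hc'.hom_ext (fun ⟨k⟩ => congrFun hab k)
    · intro f
      let s : Cocone (Discrete.functor X ⋙ F₁ L₂ F) :=
        ⟨Y, Discrete.natTrans (fun k => (f k.as : (F₁ L₂ F).obj (X k.as) ⟶ Y))⟩
      exact ⟨hc'.desc s, funext fun k => hc'.fac s ⟨k⟩⟩

/-- **Brown representability**: an additive endofunctor of `D(A)` which is exact on `Hom(-, Z)`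
along mapping cone sequences and preserves small coproducts is a left adjoint. -/
theorem isLeftAdjoint_of_brown
    (hex : ∀ {K L : CochainComplex A ℤ} (φ : K ⟶ L) (Z : 𝒟) (a : F.obj (L₂.obj L) ⟶ Z),
      F.map (L₂.map φ) ≫ a = 0 → ∃ b : F.obj (L₂.obj (CochainComplex.mappingCone φ)) ⟶ Z,
        F.map (L₂.map (CochainComplex.mappingCone.inr φ)) ≫ b = a)
    (hcop : ∀ κ : Type v, PreservesColimitsOfShape (Discrete κ) F) : F.IsLeftAdjoint := by
  haveI : (F₁ L₂ F).IsLeftAdjoint := by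
    apply isLeftAdjoint_of_universal
    intro Y
    obtain ⟨X, u, hu⟩ := Brown.exists_universal_derivedCategory (cohFun L₂ F hex hcop Y)
    exact ⟨X, u, hu⟩
  let e := eqv L₂
  let iso : e.inverse ⋙ F₁ L₂ F ⋙ e.functor ≅ F :=
    (Functor.associator _ _ _).symm ≪≫
      Functor.isoWhiskerRight e.counitIso (F ⋙ e.inverse ⋙ e.functor) ≪≫
      Functor.leftUnitor _ ≪≫ Functor.isoWhiskerLeft F e.counitIso ≪≫ Functor.rightUnitor _
  exact Functor.isLeftAdjoint_of_iso iso

end Groth.Agent.Lib.Helper2.RHom.BT
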