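import Groth.Agent.Lib.Helper2.RHom.LocClass
import Groth.Agent.Lib.Helper2.Aff.CohPush
import Groth.Agent.Lib.Helper13.PCohFT
import Groth.Agent.Lib.Helper13.PCohSum
import Groth.Agent.Lib.Helper3.QCProps
import Groth.Agent.Lib.Helper3.QCOpen
import Groth.Agent.S1039

/-!
# `RHom(K, L)` for `K ∈ D^-_Coh`, `L ∈ D^+_Coh` on a locally Noetherian scheme (helper2)
-/

set_option autoImplicit false
universe u
open CategoryTheory CategoryTheory.Limits AlgebraicGeometry HomologicalComplex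

namespace Groth.Agent.Lib.Helper2.RHom

open Groth.Agent.Lib.Helper2.Stk Groth.Agent.Lib.Helper2.Stk.LT Groth.Agent.Lib.Helper2.Tot
  Groth.Agent.Lib.Helper2.LDer DerivedCategory Pretriangulated
  Groth.Agent.Lib.Helper2.Aff Groth.Agent.Lib.Helper2.TExactIso
  Groth.Agent.Lib.Helper3

attribute [local instance] HasDerivedCategory.standard
attribute [local instance] Groth.Agent.Lib.Helper2.Stk.LT.hasLTensorCx
attribute [local instance] Groth.Agent.Lib.Helper2.RHom.hasRSheafHom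

/-- coherent modules on locally Noetherian schemes -/
def cohClass : LocClass.{u} where
  S := fun Y => IsLocallyNoetherian Y
  P := fun Y => (fun M : Y.Modules => Coh.IsCoh M)
  S_open := fun V hY => by
    haveI := hY
    infer_instance
  serre := fun {Y} hY => by
    haveI := hY
    exact Groth.Agent.Lib.Helper2.Aff.Qcqs.isWeakSerre_isCoh Y
  restrict := fun {Y} _ V M hM => by
    haveI : M.IsQuasicoherent := hM.1
    haveI : M.IsFiniteType := hM.2
    exact ⟨Scheme.Modules.isQuasicoherent_restrictFunctor V.ι M,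
      QCProps.isFiniteType_restrict V.ι M⟩
  of_cover := fun {Y} _ M h => by
    refine ⟨QCOpen.isQuasicoherent_of_open_cover M (fun x => ?_),
      Groth.Agent.Lib.Helper13.PCohFT.isFiniteType_of_openImmersions M (fun x => ?_)⟩
    · obtain ⟨V, hxV, hV⟩ := h x
      exact ⟨V, hxV, hV.1⟩
    · obtain ⟨V, hxV, hV⟩ := h x
      exact ⟨V, V.ι, inferInstance, ⟨x, hxV⟩, rfl, hV.2⟩

variable {X : Scheme.{u}}

lemma isLE_restrictD (V : X.Opens) (L : DCoh.D X) (r : ℤ) (hr : L.IsLE r) :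
    ((DCoh.restrictD V.ι).obj L).IsLE r := by
  rw [DerivedCategory.isLE_iff]
  intro i hi
  obtain ⟨e⟩ := Groth.Agent.Lib.Helper13.OpenEquivSupp.nonempty_HD_restrictD_iso V.ι L i
  haveI := hr
  exact IsZero.of_iso ((Scheme.Modules.restrictFunctor V.ι).map_isZero
    (DerivedCategory.isZero_of_isLE L r i hi)) e

/-- **`RHom(K, L) ∈ D^+_Coh` for `K ∈ D^-_Coh`, `L ∈ D^+_Coh`** -/
theorem isCohD_RSheafHom [IsLocallyNoetherian X] (K : CochainComplex X.Modules ℤ) (b : ℤ)
    (hKb : (DCoh.toD X K).IsLE b) (hK : DCoh.IsCohD (DCoh.toD X K)) (L : DCoh.D X) (a : ℤ)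
    (hLa : L.IsGE a) (hL : DCoh.IsCohD L) : DCoh.IsCohD ((DCoh.RSheafHom K).obj L) := by
  intro j
  have hX : cohClass.S X := ‹IsLocallyNoetherian X›
  refine LocClass.prop_HD_RSheafHom_of_locally (𝒞 := cohClass) hX K L j (fun x => ?_)
  obtain ⟨V, hV, hxV⟩ : ∃ V : X.Opens, IsAffineOpen V ∧ x ∈ V := by
    obtain ⟨V, hV, hxV, -⟩ := TopologicalSpace.Opens.isBasis_iff_nbhd.mp X.isBasis_affineOpens
      (show x ∈ (⊤ : X.Opens) from trivial)
    exact ⟨V, hV, hxV⟩
  refine ⟨V, hxV, ?_⟩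
  haveI : IsAffine (V : Scheme.{u}) := hV
  haveI : IsNoetherian (V : Scheme.{u}) := { }
  have hV' : cohClass.S (V : Scheme.{u}) := cohClass.S_open V hX
  let e : DCoh.toD (↑V) ((resC V).obj K) ≅ (DCoh.restrictD V.ι).obj (DCoh.toD X K) :=
    ((Scheme.Modules.restrictFunctor V.ι).mapDerivedCategoryFactors.app K).symm
  have h1 : LocClass.IsPD cohClass ((DCoh.restrictD V.ι).obj (DCoh.toD X K)) :=
    LocClass.isPD_restrictD (𝒞 := cohClass) hX hK V
  have h2 : LocClass.IsPD cohClass (DCoh.toD (↑V) ((resC V).obj K)) :=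
    LocClass.isPD_of_iso (𝒞 := cohClass) hV' e.symm h1
  have h3 : (DCoh.toD (↑V) ((resC V).obj K)).IsLE b :=
    haveI := isLE_restrictD V _ b hKb
    TStructure.t.isLE_of_iso e.symm b
  have hpc : ∀ m : ℤ, DCoh.IsPseudoCoherentD m (DCoh.toD (↑V) ((resC V).obj K)) := fun m =>
    (Groth.Agent.S1039.result (↑V) _ (fun i => (h2 i).1) m).2 ⟨fun i _ => h2 i, ⟨b, h3⟩⟩
  exact LocClass.prop_HD_RSheafHom_of_isPseudoCoherentD (𝒞 := cohClass) hV' _ (a - j - 1)
    (hpc _) _ (LocClass.isPD_restrictD (𝒞 := cohClass) hX hL V) a (isGE_restrictD V L a hLa) j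
    (by omega)

end Groth.Agent.Lib.Helper2.RHom
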