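import Groth.Agent.Lib.Helper2.RHom.EZProjCx
import Groth.Agent.Lib.Helper2.Stk.LTensorCx
import Groth.Agent.Lib.Helper13.AdjHC

/-!
# `j_!` commutes with the derived tensor product; restriction of `RHom` to an open (helper2)
-/

set_option autoImplicit false
universe u
open CategoryTheory CategoryTheory.Limits AlgebraicGeometry TopologicalSpace Opposite
  HomologicalComplex

namespace Groth.Agent.Lib.Helper2.LDer

universe v₁ v₂ v₃ v₄ u₁ u₂ u₃ u₄

variable {C : Type u₁} {D : Type u₂} {H : Type u₃} {H' : Type u₄}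
  [Category.{v₁} C] [Category.{v₂} D] [Category.{v₃} H] [Category.{v₄} H']
  {W : MorphismProperty C} {L : C ⥤ D} {F : C ⥤ H} {P : C → Prop}

/-- adaptedness is stable under post-composition -/
theorem Adapted.comp (h : Adapted W L F P) (G : H ⥤ H') : Adapted W L (F ⋙ G) P where
  id_mem := h.id_mem
  comp_mem := h.comp_mem
  frac := h.frac
  rel := fun Y Y₁ Y₂ X s₁ g₁ s₂ g₂ φ hs₁ hs₂ e₁ e₂ => by
    obtain ⟨Z, t₁, t₂, hw, h1, h2⟩ := h.rel s₁ g₁ s₂ g₂ φ hs₁ hs₂ e₁ e₂
    exact ⟨Z, t₁, t₂, hw, by simp only [Functor.comp_map, h1], by simp only [Functor.comp_map, h2]⟩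
  res := h.res
  inv := fun Y Y' s hY hY' hs => by
    haveI := h.inv s hY hY' hs
    exact inferInstanceAs (IsIso (G.map (F.map s)))

end Groth.Agent.Lib.Helper2.LDer

namespace Groth.Agent.Lib.Helper2.RHom

open Groth.Agent.Lib.Helper2.Stk Groth.Agent.Lib.Helper2.Mon Groth.Agent.Lib.Helper2.Tot
  Groth.Agent.Lib.Helper2.LDer

attribute [local instance] HasDerivedCategory.standard

variable {X : Scheme.{u}} (V : X.Opens) (K : CochainComplex X.Modules ℤ)

local notation "cc" => ComplexShape.up ℤ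

theorem acyclic_resC (L : CochainComplex X.Modules ℤ) (hL : L.Acyclic) :
    ((resC V).obj L).Acyclic := fun i => (hL i).map (jst V)

theorem acyclic_ezC (L : CochainComplex (V : Scheme.{u}).Modules ℤ) (hL : L.Acyclic) :
    ((ezC V).obj L).Acyclic := fun i => (hL i).map (jsh V)

/-- extension by zero preserves complexes K-flat in the first variable -/
theorem good_ezC (P : CochainComplex (V : Scheme.{u}).Modules ℤ) (hP : DC.Good P) :
    DC.Good ((ezC V).obj P) := by
  unfold DC.Good at hP ⊢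
  rw [kflat_flip_iff] at hP ⊢
  intro L hL
  exact Tot.acyclic_of_iso (projCxIso V P L).symm
    (acyclic_ezC V _ (hP _ (acyclic_resC V L hL)))

/-- the projection formula as a natural isomorphism in the first variable -/
noncomputable def projCxNatIso :
    ezC V ⋙ (DCoh.tensorCx (X := X)).flip.obj K ≅
      (DCoh.tensorCx (X := (V : Scheme.{u}))).flip.obj ((resC V).obj K) ⋙ ezC V :=
  NatIso.ofComponents (fun P => projCxIso V P K)
    (fun {P P'} a => projCxIso_hom_naturality V a K)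

/-- the functor of which both `j_! ∘ (- ⊗^L K|_V)` and `(- ⊗^L K) ∘ j_!` are left derived
functors -/
noncomputable abbrev Φ₀ : CochainComplex (V : Scheme.{u}).Modules ℤ ⥤ DCoh.D X :=
  DCoh.tensorCxQ ((resC V).obj K) ⋙ CxOX.extZeroD V.ι

theorem adapted_Φ₀ :
    Adapted (HomologicalComplex.quasiIso (V : Scheme.{u}).Modules cc) DerivedCategory.Q
      (Φ₀ V K) DC.Good :=
  (LT.adapted_tensorCxQ ((resC V).obj K)).comp _

variable [DCoh.HasLTensorCx K] [DCoh.HasLTensorCx ((resC V).obj K)]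

/-- the comparison for `j_! ∘ (- ⊗^L K|_V)` -/
noncomputable def β₁ :
    DerivedCategory.Q ⋙ (DCoh.LTensorCx ((resC V).obj K) ⋙ CxOX.extZeroD V.ι) ⟶ Φ₀ V K :=
  (Functor.associator _ _ _).inv ≫
    Functor.whiskerRight (LT.counitT ((resC V).obj K)) (CxOX.extZeroD V.ι)

lemma β₁_app (P : CochainComplex (V : Scheme.{u}).Modules ℤ) :
    (β₁ V K).app P = (CxOX.extZeroD V.ι).map ((LT.counitT ((resC V).obj K)).app P) := by
  simp [β₁]

/-- the comparison for `(- ⊗^L K) ∘ j_!` -/
noncomputable def β₂ :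
    DerivedCategory.Q ⋙ (CxOX.extZeroD V.ι ⋙ DCoh.LTensorCx K) ⟶ Φ₀ V K :=
  (Functor.associator _ _ _).inv ≫
    Functor.whiskerRight (jsh V).mapDerivedCategoryFactors.hom (DCoh.LTensorCx K) ≫
    (Functor.associator _ _ _).hom ≫
    Functor.whiskerLeft (ezC V) (LT.counitT K) ≫
    (Functor.associator _ _ _).inv ≫
    Functor.whiskerRight (projCxNatIso V K).hom DerivedCategory.Q ≫
    (Functor.associator _ _ _).hom ≫
    Functor.whiskerLeft _ (jsh V).mapDerivedCategoryFactors.inv ≫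
    (Functor.associator _ _ _).inv

lemma β₂_app (P : CochainComplex (V : Scheme.{u}).Modules ℤ) :
    (β₂ V K).app P =
      (DCoh.LTensorCx K).map ((jsh V).mapDerivedCategoryFactors.hom.app P) ≫
        (LT.counitT K).app ((ezC V).obj P) ≫
        DerivedCategory.Q.map (projCxIso V P K).hom ≫
        (jsh V).mapDerivedCategoryFactors.inv.app _ := by
  simp [β₂, projCxNatIso]

/-- **`j_!` commutes with the derived tensor product** -/
noncomputable def ezTensorIso :
    CxOX.extZeroD V.ι ⋙ DCoh.LTensorCx K ≅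
      DCoh.LTensorCx ((resC V).obj K) ⋙ CxOX.extZeroD V.ι :=
  haveI := (adapted_Φ₀ V K).hasLeftDerivedFunctor
  (adapted_Φ₀ V K).isoTotalLeftDerived _ (β₂ V K) (fun P hP => by
    rw [β₂_app]
    haveI := LT.isIso_counitT_app K _ (good_ezC V P hP)
    infer_instance) ≪≫
  ((adapted_Φ₀ V K).isoTotalLeftDerived _ (β₁ V K) (fun P hP => by
    rw [β₁_app]
    haveI := LT.isIso_counitT_app ((resC V).obj K) P hP
    infer_instance)).symm

/-- the adjunction `j_! ⊣ j^*` on derived categories -/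
noncomputable abbrev adjEZ : CxOX.extZeroD V.ι ⊣ DCoh.restrictD V.ι :=
  Groth.Agent.Lib.Helper13.AdjHC.adjD (CxOX.extZeroAdj V.ι)

/-- `RHom(K, M)|_V` represents `A ↦ Hom(A ⊗^L K|_V, M|_V)` -/
noncomputable def adjRes [DCoh.HasRSheafHom K] :
    DCoh.LTensorCx ((resC V).obj K) ⋙ CxOX.extZeroD V.ι ⊣
      DCoh.RSheafHom K ⋙ DCoh.restrictD V.ι :=
  ((adjEZ V).comp (DCoh.RSheafHomAdj K)).ofNatIsoLeft (ezTensorIso V K)

/-- **restriction of the internal Hom to an open subscheme** -/
noncomputable def restrictRSheafHomIso [DCoh.HasRSheafHom K]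
    [DCoh.HasRSheafHom ((resC V).obj K)] :
    DCoh.RSheafHom K ⋙ DCoh.restrictD V.ι ≅
      DCoh.restrictD V.ι ⋙ DCoh.RSheafHom ((resC V).obj K) :=
  (adjRes V K).rightAdjointUniq ((DCoh.RSheafHomAdj ((resC V).obj K)).comp (adjEZ V))

end Groth.Agent.Lib.Helper2.RHom
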