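import Groth.Agent.Lib.Helper2.RHom.EZStalk
import Groth.Agent.Lib.Helper2.Stk.MapBifunctor

/-!
# The projection formula `j_!(A ⊗ j^*B) ≅ j_!A ⊗ B` for modules and complexes (helper2)
-/

set_option autoImplicit false
universe u
open CategoryTheory CategoryTheory.Limits AlgebraicGeometry TopologicalSpace Opposite MonoidalCategory
  HomologicalComplex

namespace Groth.Agent.Lib.Helper2.RHom

open Groth.Agent.Lib.Helper2.Stk Groth.Agent.Lib.Helper2.Mon

variable {X : Scheme.{u}} (V : X.Opens)

/-- extension by zero -/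
noncomputable abbrev jsh : (V : Scheme.{u}).Modules ⥤ X.Modules := CxOX.extZero V.ι
/-- restriction -/
noncomputable abbrev jst : X.Modules ⥤ (V : Scheme.{u}).Modules := Scheme.Modules.restrictFunctor V.ι
/-- the adjunction -/
noncomputable abbrev adjV : jsh V ⊣ jst V := CxOX.extZeroAdj V.ι
local notation "cc" => ComplexShape.up ℤ

/-- the bifunctor `(A, B) ↦ A ⊗ B|_V` -/
noncomputable abbrev tensorRes :
    (V : Scheme.{u}).Modules ⥤ X.Modules ⥤ (V : Scheme.{u}).Modules :=
  DCoh.tensorBi (X := (V : Scheme.{u})) ⋙ (Functor.whiskeringLeft _ _ _).obj (jst V)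

instance additive_tensorRes_obj (A : (V : Scheme.{u}).Modules) : ((tensorRes V).obj A).Additive :=
  inferInstanceAs (jst V ⋙ (DCoh.tensorBi (X := (V : Scheme.{u}))).obj A).Additive

instance preservesZeroMorphisms_tensorRes : (tensorRes V).PreservesZeroMorphisms where
  map_zero A A' := by
    apply NatTrans.ext
    funext B
    show ((DCoh.tensorBi (X := (V : Scheme.{u}))).map (0 : A ⟶ A')).app _ = 0
    rw [Functor.map_zero]
    rfl

instance isIso_unit_app (A : (V : Scheme.{u}).Modules) : IsIso ((adjV V).unit.app A) := by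
  haveI := Groth.Agent.Lib.Helper13.SuppOpen.isIso_extZeroAdj_unit V
  infer_instance

/-- `A ⊗ B|_V ≅ (j_!A ⊗ B)|_V` -/
noncomputable def thetaIso (A : (V : Scheme.{u}).Modules) (B : X.Modules) :
    ((tensorRes V).obj A).obj B ≅
      (jst V).obj (((DCoh.tensorBi (X := X)).obj ((jsh V).obj A)).obj B) :=
  ((DCoh.tensorBi (X := (V : Scheme.{u}))).mapIso (asIso ((adjV V).unit.app A))).app ((jst V).obj B) ≪≫
    resTensorIso' V.ι ((jsh V).obj A) B

lemma thetaIso_hom (A : (V : Scheme.{u}).Modules) (B : X.Modules) :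
    (thetaIso V A B).hom =
      ((DCoh.tensorBi (X := (V : Scheme.{u}))).map ((adjV V).unit.app A)).app ((jst V).obj B) ≫
        (resTensorIso' V.ι ((jsh V).obj A) B).hom := rfl

lemma thetaIso_nat₁ {A A' : (V : Scheme.{u}).Modules} (a : A ⟶ A') (B : X.Modules) :
    ((tensorRes V).map a).app B ≫ (thetaIso V A' B).hom =
      (thetaIso V A B).hom ≫ (jst V).map (((DCoh.tensorBi (X := X)).map ((jsh V).map a)).app B) := by
  rw [thetaIso_hom, thetaIso_hom, Category.assoc, ← resTensorIso'_nat₁ V.ι ((jsh V).map a) B]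
  have h := (adjV V).unit.naturality a
  simp only [Functor.id_map, Functor.comp_map] at h
  show ((DCoh.tensorBi (X := (V : Scheme.{u}))).map a).app ((jst V).obj B) ≫ _ = _
  rw [← Category.assoc, ← Category.assoc, ← NatTrans.comp_app, ← NatTrans.comp_app,
    ← Functor.map_comp, ← Functor.map_comp, h]

lemma thetaIso_nat₂ (A : (V : Scheme.{u}).Modules) {B B' : X.Modules} (b : B ⟶ B') :
    ((tensorRes V).obj A).map b ≫ (thetaIso V A B').hom =
      (thetaIso V A B).hom ≫ (jst V).map (((DCoh.tensorBi (X := X)).obj ((jsh V).obj A)).map b) := by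
  rw [thetaIso_hom, thetaIso_hom, Category.assoc, ← resTensorIso'_nat₂ V.ι ((jsh V).obj A) b]
  show ((DCoh.tensorBi (X := (V : Scheme.{u}))).obj A).map ((jst V).map b) ≫ _ = _
  rw [← Category.assoc, ← Category.assoc]
  congr 1
  exact ((DCoh.tensorBi (X := (V : Scheme.{u}))).map ((adjV V).unit.app A)).naturality
    ((jst V).map b)

/-- the projection morphism `j_!(A ⊗ B|_V) ⟶ j_!A ⊗ B` -/
noncomputable def projHom (A : (V : Scheme.{u}).Modules) (B : X.Modules) :
    (jsh V).obj (((tensorRes V).obj A).obj B) ⟶ ((DCoh.tensorBi (X := X)).obj ((jsh V).obj A)).obj B :=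
  ((adjV V).homEquiv _ _).symm (thetaIso V A B).hom

lemma projHom_nat₁ {A A' : (V : Scheme.{u}).Modules} (a : A ⟶ A') (B : X.Modules) :
    (jsh V).map (((tensorRes V).map a).app B) ≫ projHom V A' B =
      projHom V A B ≫ ((DCoh.tensorBi (X := X)).map ((jsh V).map a)).app B := by
  unfold projHom
  rw [← Adjunction.homEquiv_naturality_left_symm, ← Adjunction.homEquiv_naturality_right_symm,
    thetaIso_nat₁]

lemma projHom_nat₂ (A : (V : Scheme.{u}).Modules) {B B' : X.Modules} (b : B ⟶ B') :
    (jsh V).map (((tensorRes V).obj A).map b) ≫ projHom V A B' =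
      projHom V A B ≫ ((DCoh.tensorBi (X := X)).obj ((jsh V).obj A)).map b := by
  unfold projHom
  rw [← Adjunction.homEquiv_naturality_left_symm, ← Adjunction.homEquiv_naturality_right_symm,
    thetaIso_nat₂]

instance isIso_restrict_counit (M : X.Modules) : IsIso ((jst V).map ((adjV V).counit.app M)) := by
  have h := (adjV V).right_triangle_components M
  exact IsIso.of_isIso_fac_left h

instance isIso_projHom (A : (V : Scheme.{u}).Modules) (B : X.Modules) :
    IsIso (projHom V A B) := by
  have : ∀ x, IsIso ((Φ x).map (projHom V A B)) := by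
    intro x
    by_cases hx : x ∈ V
    · have h : projHom V A B = (jsh V).map (thetaIso V A B).hom ≫ (adjV V).counit.app _ :=
        (adjV V).homEquiv_counit _ _ _
      have hy : V.ι.base ⟨x, hx⟩ = x := rfl
      rw [h, Functor.map_comp, ← hy]
      have := isIso_stalk_of_isIso_restrict V ((adjV V).counit.app
        (((DCoh.tensorBi (X := X)).obj ((jsh V).obj A)).obj B)) ⟨x, hx⟩
      infer_instance
    · have z1 : IsZero ((Φ x).obj ((jsh V).obj (((tensorRes V).obj A).obj B))) :=
        isZero_stalk_extZero V x hx _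
      have z2 : IsZero ((Φ x).obj (((DCoh.tensorBi (X := X)).obj ((jsh V).obj A)).obj B)) := by
        refine IsZero.of_iso ?_ (tensorIso ((jsh V).obj A) B x).symm
        exact (tensorRight ((Φ x).obj B)).map_isZero (isZero_stalk_extZero V x hx A)
      exact ⟨0, z1.eq_of_src _ _, z2.eq_of_src _ _⟩
  exact jointlyReflectIsomorphisms_Φ.isIso _

/-- the projection formula `j_!A ⊗ B ≅ j_!(A ⊗ B|_V)` -/
noncomputable def projIso (A : (V : Scheme.{u}).Modules) (B : X.Modules) :
    ((DCoh.tensorBi (X := X)).obj ((jsh V).obj A)).obj ((𝟭 X.Modules).obj B) ≅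
      (jsh V).obj (((tensorRes V).obj A).obj B) :=
  (asIso (projHom V A B)).symm

lemma projIso_nat₁ {A A' : (V : Scheme.{u}).Modules} (a : A ⟶ A') (B : X.Modules) :
    ((DCoh.tensorBi (X := X)).map ((jsh V).map a)).app ((𝟭 X.Modules).obj B) ≫ (projIso V A' B).hom =
      (projIso V A B).hom ≫ (jsh V).map (((tensorRes V).map a).app B) := by
  show _ ≫ inv (projHom V A' B) = inv (projHom V A B) ≫ _
  rw [IsIso.comp_inv_eq, Category.assoc, IsIso.eq_inv_comp]
  exact (projHom_nat₁ V a B).symm

lemma projIso_nat₂ (A : (V : Scheme.{u}).Modules) {B B' : X.Modules} (b : B ⟶ B') :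
    ((DCoh.tensorBi (X := X)).obj ((jsh V).obj A)).map ((𝟭 X.Modules).map b) ≫ (projIso V A B').hom =
      (projIso V A B).hom ≫ (jsh V).map (((tensorRes V).obj A).map b) := by
  show _ ≫ inv (projHom V A B') = inv (projHom V A B) ≫ _
  rw [IsIso.comp_inv_eq, Category.assoc, IsIso.eq_inv_comp]
  exact (projHom_nat₂ V A b).symm

end Groth.Agent.Lib.Helper2.RHom
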