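import Groth.Agent.Lib.Helper2.RHom.EZProj
import Groth.Agent.Lib.Helper2.Mon.TensorSymm
import Groth.Agent.Lib.Helper13.KInjSch

/-!
# The projection formula for `j_!` on complexes; `j_!` preserves K-flat complexes (helper2)
-/

set_option autoImplicit false
universe u
open CategoryTheory CategoryTheory.Limits AlgebraicGeometry TopologicalSpace Opposite MonoidalCategory
  HomologicalComplex

namespace Groth.Agent.Lib.Helper2.Stk.MB

open Category

variable {C₁ C₂ D C₁' C₂' D' : Type*} [Category C₁] [Category C₂] [Category D]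
  [Category C₁'] [Category C₂'] [Category D']
  [Preadditive C₁] [Preadditive C₂] [Preadditive D] [Preadditive C₁'] [Preadditive C₂']
  [Preadditive D']
  (F : C₁ ⥤ C₂ ⥤ D) [F.PreservesZeroMorphisms] [∀ X₁, (F.obj X₁).PreservesZeroMorphisms]
  (F' : C₁' ⥤ C₂' ⥤ D') [F'.PreservesZeroMorphisms] [∀ X₁, (F'.obj X₁).PreservesZeroMorphisms]
  (H₁ : C₁ ⥤ C₁') [H₁.Additive] (H₂ : C₂ ⥤ C₂') [H₂.Additive] (G : D ⥤ D') [G.Additive]
  {I₁ I₂ J : Type*} {c₁ : ComplexShape I₁} {c₂ : ComplexShape I₂} (c : ComplexShape J)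
  [DecidableEq J] [TotalComplexShape c₁ c₂ c]
  (K₁ K₁' : HomologicalComplex C₁ c₁) (K₂ : HomologicalComplex C₂ c₂)
  [HasMapBifunctor K₁ K₂ F c] [HasMapBifunctor K₁' K₂ F c]
  [HasMapBifunctor ((H₁.mapHomologicalComplex c₁).obj K₁) ((H₂.mapHomologicalComplex c₂).obj K₂) F' c]
  [HasMapBifunctor ((H₁.mapHomologicalComplex c₁).obj K₁') ((H₂.mapHomologicalComplex c₂).obj K₂) F' c]
  (e : ∀ (A : C₁) (B : C₂), (F'.obj (H₁.obj A)).obj (H₂.obj B) ≅ G.obj ((F.obj A).obj B))
  (e_nat₁ : ∀ {A A' : C₁} (a : A ⟶ A') (B : C₂),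
    (F'.map (H₁.map a)).app (H₂.obj B) ≫ (e A' B).hom = (e A B).hom ≫ G.map ((F.map a).app B))
  (e_nat₂ : ∀ (A : C₁) {B B' : C₂} (b : B ⟶ B'),
    (F'.obj (H₁.obj A)).map (H₂.map b) ≫ (e A B').hom = (e A B).hom ≫ G.map ((F.obj A).map b))

include e_nat₁ in
lemma toX_naturality₁ (a : K₁ ⟶ K₁') (j : J) :
    (mapBifunctorMap ((H₁.mapHomologicalComplex c₁).map a)
        (𝟙 ((H₂.mapHomologicalComplex c₂).obj K₂)) F' c).f j ≫ toX F F' H₁ H₂ G c K₁' K₂ e j =
      toX F F' H₁ H₂ G c K₁ K₂ e j ≫ G.map ((mapBifunctorMap a (𝟙 K₂) F c).f j) := by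
  apply mapBifunctor.hom_ext
  intro i₁ i₂ h
  rw [ι_mapBifunctorMap_assoc, ι_toX_assoc, ι_toX, ← G.map_comp, ι_mapBifunctorMap]
  simp only [id_f, Functor.mapHomologicalComplex_map_f]
  rw [CategoryTheory.Functor.map_id, CategoryTheory.Functor.map_id, id_comp, id_comp, G.map_comp]
  have h' := e_nat₁ (a.f i₁) (K₂.X i₂)
  rw [← assoc, ← assoc]
  exact congrArg (fun t => t ≫ G.map (K₁'.ιMapBifunctor K₂ F c i₁ i₂ j h)) h'

end Groth.Agent.Lib.Helper2.Stk.MB

namespace Groth.Agent.Lib.Helper2.RHom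

open Groth.Agent.Lib.Helper2.Stk Groth.Agent.Lib.Helper2.Mon Groth.Agent.Lib.Helper2.Tot

variable {X : Scheme.{u}} (V : X.Opens)

local notation "cc" => ComplexShape.up ℤ

/-- extension by zero of complexes -/
noncomputable abbrev ezC :
    CochainComplex (V : Scheme.{u}).Modules ℤ ⥤ CochainComplex X.Modules ℤ :=
  (jsh V).mapHomologicalComplex cc

/-- restriction of complexes -/
noncomputable abbrev resC :
    CochainComplex X.Modules ℤ ⥤ CochainComplex (V : Scheme.{u}).Modules ℤ :=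
  (jst V).mapHomologicalComplex cc

instance preservesColimit_jsh {J : Type} (f : J → (V : Scheme.{u}).Modules) :
    PreservesColimit (Discrete.functor f) (jsh V) := by
  have : PreservesColimitsOfSize.{0, 0} (jsh V) := (adjV V).leftAdjoint_preservesColimits
  infer_instance

/-- the projection formula for complexes: `j_!K ⊗ L ≅ j_!(K ⊗ L|_V)` -/
noncomputable def projCxIso (K : CochainComplex (V : Scheme.{u}).Modules ℤ)
    (L : CochainComplex X.Modules ℤ) :
    (DCoh.tensorCx.obj ((ezC V).obj K)).obj L ≅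
      (ezC V).obj ((DCoh.tensorCx.obj K).obj ((resC V).obj L)) :=
  Stk.MB.mapIso (tensorRes V) (DCoh.tensorBi (X := X))
    (jsh V) (𝟭 X.Modules) (jsh V) cc K L
    (fun A B => projIso V A B)
    (fun a B => projIso_nat₁ V a B)
    (fun A _ _ b => projIso_nat₂ V A b)

lemma projCxIso_hom_naturality {K K' : CochainComplex (V : Scheme.{u}).Modules ℤ} (a : K ⟶ K')
    (L : CochainComplex X.Modules ℤ) :
    (DCoh.tensorCx.map ((ezC V).map a)).app L ≫ (projCxIso V K' L).hom =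
      (projCxIso V K L).hom ≫
        (ezC V).map ((DCoh.tensorCx.map a).app ((resC V).obj L)) := by
  refine HomologicalComplex.hom_ext _ _ (fun j => ?_)
  exact Stk.MB.toX_naturality₁ (tensorRes V) (DCoh.tensorBi (X := X))
    (jsh V) (𝟭 X.Modules) (jsh V) cc K K' L
    (fun A B => projIso V A B)
    (fun a B => projIso_nat₁ V a B) a j

end Groth.Agent.Lib.Helper2.RHom
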