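import Groth.Agent.Lib.Helper2.Stk.Sky
import Groth.Agent.Lib.Helper2.Stk.Lpull
import Groth.Agent.Lib.Helper13.SuppOpen
import Groth.Agent.Lib.Helper2.Mon.ResTensor

/-!
# Stalks of extension by zero, and the projection formula `j_!(A ⊗ j^*B) ≅ j_!A ⊗ B` (helper2)
-/

set_option autoImplicit false
universe u
open CategoryTheory CategoryTheory.Limits AlgebraicGeometry TopologicalSpace Opposite MonoidalCategory

namespace Groth.Agent.Lib.Helper2.RHom

open Groth.Agent.Lib.Helper2.Stk Groth.Agent.Lib.Helper2.Mon

variable {X : Scheme.{u}} (V : X.Opens)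

/-- sections of a skyscraper over an open not containing the point form a subsingleton -/
lemma hom_sky_restrict_eq (x : X) (hx : x ∉ V) (T : ModuleCat.{u} (X.presheaf.stalk x))
    {B : (V : Scheme.{u}).Modules}
    (a b : B ⟶ (Scheme.Modules.restrictFunctor V.ι).obj ((skyF x).obj T)) : a = b := by
  apply Scheme.Modules.hom_ext
  intro U
  ext s
  funext h
  exfalso
  apply hx
  have h1 : x ∈ V.ι ''ᵁ U := h.down
  exact (Scheme.Opens.ι_image_le V U) h1

/-- the stalk of `j_! B` at a point outside the open is zero -/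
theorem isZero_stalk_extZero (x : X) (hx : x ∉ V) (B : (V : Scheme.{u}).Modules) :
    IsZero ((Φ x).obj ((CxOX.extZero V.ι).obj B)) := by
  rw [IsZero.iff_id_eq_zero]
  apply ((stalkSkyAdj x).homEquiv _ _).injective
  apply ((CxOX.extZeroAdj V.ι).homEquiv _ _).injective
  exact hom_sky_restrict_eq V x hx _ _ _

/-- a morphism of modules which restricts to an isomorphism over `V` is an isomorphism on stalks
at the points of `V` -/
theorem isIso_stalk_of_isIso_restrict {M N : X.Modules} (φ : M ⟶ N)
    [IsIso ((Scheme.Modules.restrictFunctor V.ι).map φ)] (y : (V : Scheme.{u})) :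
    IsIso ((Φ (V.ι.base y)).map φ) := by
  rw [ConcreteCategory.isIso_iff_bijective]
  have hnat := (Scheme.Modules.restrictStalkNatIso V.ι y).hom.naturality φ
  have h1 : IsIso ((Scheme.Modules.toPresheaf X ⋙
      TopCat.Presheaf.stalkFunctor Ab.{u} (V.ι.base y)).map φ) := by
    have h2 : IsIso ((Scheme.Modules.restrictStalkNatIso V.ι y).hom.app M ≫
        (Scheme.Modules.toPresheaf X ⋙
          TopCat.Presheaf.stalkFunctor Ab.{u} (V.ι.base y)).map φ) := by
      rw [← hnat]
      haveI : IsIso ((Scheme.Modules.restrictFunctor V.ι ⋙ Scheme.Modules.toPresheaf (V : Scheme.{u}) ⋙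
          TopCat.Presheaf.stalkFunctor Ab.{u} y).map φ) := by
        rw [Functor.comp_map]
        infer_instance
      infer_instance
    exact IsIso.of_isIso_comp_left ((Scheme.Modules.restrictStalkNatIso V.ι y).hom.app M) _
  have h3 := (ConcreteCategory.isIso_iff_bijective _).1 h1
  exact h3

end Groth.Agent.Lib.Helper2.RHom
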