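import Groth.Agent.Lib.Helper2.RHom.TFun
import Groth.Agent.Lib.Helper2.RHom.BrownTransport
import Groth.Agent.Lib.Helper2.LDer.DCohTri
import Groth.Agent.Lib.Helper2.Tot.Colim
import Groth.Agent.Lib.Helper13.QCohCoprod
import Groth.Agent.Lib.Helper13.ModSiteFlat
import Groth.Agent.Lib.Helper2.KInj.SmallD

/-!
# The internal `RHom(K, -)` exists on `D(O_X)` (helper2)

`- ⊗^L K` is a left adjoint, by Brown representability.
-/

set_option autoImplicit false
universe u
open CategoryTheory CategoryTheory.Limits AlgebraicGeometry HomologicalComplex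

namespace Groth.Agent.Lib.Helper2.RHom

open Groth.Agent.Lib.Helper2.Stk Groth.Agent.Lib.Helper2.Stk.LT Groth.Agent.Lib.Helper2.Tot
  Groth.Agent.Lib.Helper2.LDer DerivedCategory Pretriangulated

attribute [local instance] HasDerivedCategory.standard
attribute [local instance] Groth.Agent.Lib.Helper2.Stk.LT.hasLTensorCx

variable {X : Scheme.{u}}

/-- every distinguished triangle of `D(O_X)` is isomorphic to the triangle of a degreewise split
short exact sequence of good complexes -/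
theorem exists_ses_of_distinguished' (T : Triangle (DCoh.D X))
    (hT : T ∈ distTriang (DCoh.D X)) :
    ∃ (S : ShortComplex (CochainComplex X.Modules ℤ)) (hS : S.ShortExact),
      (∀ q : ℤ, Nonempty (S.map (eval X.Modules (ComplexShape.up ℤ) q)).Splitting) ∧
      DC.Good S.X₁ ∧ DC.Good S.X₂ ∧ DC.Good S.X₃ ∧ Nonempty (triangleOfSES hS ≅ T) := by
  let K₁ := (Q (C := X.Modules)).objPreimage T.obj₁
  let e₁ : Q.obj K₁ ≅ T.obj₁ := (Q (C := X.Modules)).objObjPreimageIso T.obj₁
  let K₂ := (Q (C := X.Modules)).objPreimage T.obj₂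
  let e₂ : Q.obj K₂ ≅ T.obj₂ := (Q (C := X.Modules)).objObjPreimageIso T.obj₂
  let ψ : Q.obj K₁ ⟶ Q.obj K₂ := e₁.hom ≫ T.mor₁ ≫ e₂.inv
  obtain ⟨Y', s, hs, g, hψ⟩ := DerivedCategory.right_fac ψ
  obtain ⟨P, r, hP, _, _, hr, _⟩ := DC.exists_good_resolution Y'
  obtain ⟨N, M, b, p, w, c, hS, hsplit, hN, hM, hc, hbc, _, _⟩ :=
    DC.exists_good_factorization (r ≫ g) hP
  haveI : IsIso (Q.map r) := (isIso_Q_map_iff_quasiIso _ r).2 hr
  haveI : IsIso (Q.map c) := (isIso_Q_map_iff_quasiIso _ c).2 hc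
  let u₁ : Q.obj P ≅ T.obj₁ := asIso (Q.map r) ≪≫ asIso (Q.map s) ≪≫ e₁
  let u₂ : Q.obj N ≅ T.obj₂ := asIso (Q.map c) ≪≫ e₂
  have h1 : Q.map s ≫ ψ = Q.map g := by rw [hψ, IsIso.hom_inv_id_assoc]
  have h2 : Q.map g ≫ e₂.hom = Q.map s ≫ e₁.hom ≫ T.mor₁ := by
    rw [← h1]
    simp [ψ]
  have comm : Q.map b ≫ u₂.hom = u₁.hom ≫ T.mor₁ := by
    simp only [u₁, u₂, Iso.trans_hom, asIso_hom, Category.assoc]
    rw [← Q.map_comp_assoc, hbc, Q.map_comp_assoc, h2]
  let iso := isoTriangleOfIso₁₂ (triangleOfSES hS) T (triangleOfSES_distinguished hS) hT u₁ u₂ comm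
  exact ⟨ShortComplex.mk b p w, hS, hsplit, hP, hN, hM, ⟨iso⟩⟩

variable (K : CochainComplex X.Modules ℤ)

/-- `- ⊗^L K` is exact on `Hom(-, Z)` along mapping cone sequences -/
theorem hex_LTensorCx {K₁ K₂ : CochainComplex X.Modules ℤ} (φ : K₁ ⟶ K₂) (Z : DCoh.D X)
    (a : (DCoh.LTensorCx K).obj (Q.obj K₂) ⟶ Z)
    (ha : (DCoh.LTensorCx K).map (Q.map φ) ≫ a = 0) :
    ∃ b : (DCoh.LTensorCx K).obj (Q.obj (CochainComplex.mappingCone φ)) ⟶ Z,
      (DCoh.LTensorCx K).map (Q.map (CochainComplex.mappingCone.inr φ)) ≫ b = a := by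
  let T : Triangle (DCoh.D X) := Q.mapTriangle.obj (CochainComplex.mappingCone.triangle φ)
  have hT : T ∈ distTriang (DCoh.D X) :=
    (DerivedCategory.mem_distTriang_iff T).2 ⟨K₁, K₂, φ, ⟨Iso.refl _⟩⟩
  obtain ⟨S, hS, hsplit, g₁, g₂, g₃, ⟨i⟩⟩ := exists_ses_of_distinguished' T hT
  let G := (DCoh.tensorCx (X := X)).flip.obj K
  have hS' : (S.map G).ShortExact :=
    Tot.shortExact_map₁ (F := DCoh.tensorBi (X := X)) K S (fun p q => by
      obtain ⟨σ⟩ := hsplit p
      exact (σ.map ((DCoh.tensorBi (X := X)).flip.obj (K.X q))).shortExact)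
  have hT' := triangleOfSES_distinguished hS'
  let TK := DCoh.LTensorCx K
  have i₁ := isIso_counitT_app K S.X₁ g₁
  have i₂ := isIso_counitT_app K S.X₂ g₂
  have i₃ := isIso_counitT_app K S.X₃ g₃
  let j₁ : T.obj₁ ≅ Q.obj S.X₁ := (Triangle.π₁.mapIso i).symm
  let j₂ : T.obj₂ ≅ Q.obj S.X₂ := (Triangle.π₂.mapIso i).symm
  let j₃ : T.obj₃ ≅ Q.obj S.X₃ := (Triangle.π₃.mapIso i).symm
  have k₁ : T.mor₁ ≫ j₂.hom = j₁.hom ≫ Q.map S.f := i.inv.comm₁
  have k₂ : T.mor₂ ≫ j₃.hom = j₂.hom ≫ Q.map S.g := i.inv.comm₂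
  let u₁ : TK.obj T.obj₁ ≅ Q.obj (G.obj S.X₁) :=
    TK.mapIso j₁ ≪≫ @asIso _ _ _ _ ((counitT K).app S.X₁) i₁
  let u₂ : TK.obj T.obj₂ ≅ Q.obj (G.obj S.X₂) :=
    TK.mapIso j₂ ≪≫ @asIso _ _ _ _ ((counitT K).app S.X₂) i₂
  let u₃ : TK.obj T.obj₃ ≅ Q.obj (G.obj S.X₃) :=
    TK.mapIso j₃ ≪≫ @asIso _ _ _ _ ((counitT K).app S.X₃) i₃
  have n₁ : TK.map (Q.map S.f) ≫ (counitT K).app S.X₂ =
      (counitT K).app S.X₁ ≫ Q.map (G.map S.f) := (counitT K).naturality S.f
  have n₂ : TK.map (Q.map S.g) ≫ (counitT K).app S.X₃ =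
      (counitT K).app S.X₂ ≫ Q.map (G.map S.g) := (counitT K).naturality S.g
  have c₁ : TK.map T.mor₁ ≫ u₂.hom = u₁.hom ≫ Q.map (G.map S.f) := by
    simp only [u₁, u₂, Iso.trans_hom, Functor.mapIso_hom, asIso_hom, Category.assoc]
    rw [← Functor.map_comp_assoc, k₁, Functor.map_comp_assoc, n₁]
  have c₂ : TK.map T.mor₂ ≫ u₃.hom = u₂.hom ≫ Q.map (G.map S.g) := by
    simp only [u₂, u₃, Iso.trans_hom, Functor.mapIso_hom, asIso_hom, Category.assoc]
    rw [← Functor.map_comp_assoc, k₂, Functor.map_comp_assoc, n₂]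
  have h3 : Q.map (G.map S.f) ≫ u₂.inv = u₁.inv ≫ TK.map T.mor₁ := by
    rw [← cancel_mono u₂.hom, Category.assoc, Iso.inv_hom_id, Category.comp_id, Category.assoc,
      c₁, Iso.inv_hom_id_assoc]
  have ha' : (triangleOfSES hS').mor₁ ≫ (u₂.inv ≫ a) = 0 := by
    change Q.map (G.map S.f) ≫ (u₂.inv ≫ a) = 0
    rw [← Category.assoc, h3, Category.assoc]
    exact (congrArg (fun t => u₁.inv ≫ t) ha).trans comp_zero
  obtain ⟨b', hb'⟩ := Triangle.yoneda_exact₂ _ hT' (u₂.inv ≫ a) ha'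
  change u₂.inv ≫ a = Q.map (G.map S.g) ≫ b' at hb'
  refine ⟨u₃.hom ≫ b', ?_⟩
  change TK.map T.mor₂ ≫ u₃.hom ≫ b' = a
  rw [← Category.assoc, c₂, Category.assoc, ← hb', Iso.hom_inv_id_assoc]

section Coprod

variable {κ : Type u}

/-- `Q` sends colimit cofans of complexes to colimit cofans -/
noncomputable def isColimitQOfIsColimit {A : Type*} [Category A] [Abelian A]
    [HasDerivedCategory A] {J : Type*} [HasColimitsOfShape (Discrete J) A]
    [HasExactColimitsOfShape (Discrete J) A] {P : J → CochainComplex A ℤ} (c : Cofan P)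
    (hc : IsColimit c) :
    IsColimit (Cofan.mk (Q.obj c.pt) (fun k => Q.map (c.inj k))) := by
  let e : ∐ P ≅ c.pt := (coproductIsCoproduct P).coconePointUniqueUpToIso hc
  have he : ∀ k, Sigma.ι P k ≫ e.hom = c.inj k := fun k =>
    (coproductIsCoproduct P).comp_coconePointUniqueUpToIso_hom hc ⟨k⟩
  refine IsColimit.ofIsoColimit (Groth.Agent.Lib.Helper13.QCohCoprod.isColimitCofanQ' P)
    (Cofan.ext (Q.mapIso e) (fun k => ?_))
  dsimp
  rw [← Functor.map_comp, he]

theorem good_sigma (P : κ → CochainComplex X.Modules ℤ) (hP : ∀ k, DC.Good (P k)) :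
    DC.Good (∐ P) := by
  haveI : IsGrothendieckAbelian.{u} X.Modules :=
    Groth.Agent.Lib.Helper13.ModGrothendieck.isGrothendieckAbelian X.ringCatSheaf
  haveI : ∀ Y : X.Modules, PreservesColimitsOfShape (Discrete κ)
      ((DCoh.tensorBi (X := X)).flip.obj Y) := fun Y =>
    (Groth.Agent.Lib.Helper13.ModSiteFlat.preservesColimitsOfSize_flip
      X.sheaf Y).preservesColimitsOfShape
  exact Tot.kflat_of_isColimit (F := (DCoh.tensorBi (X := X)).flip)
    (K := Discrete.functor P) (coproductIsCoproduct P) (fun j => hP j.as)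

/-- `- ⊗^L K` preserves small coproducts -/
theorem hcop_LTensorCx : PreservesColimitsOfShape (Discrete κ) (DCoh.LTensorCx K) := by
  haveI : IsGrothendieckAbelian.{u} X.Modules :=
    Groth.Agent.Lib.Helper13.ModGrothendieck.isGrothendieckAbelian X.ringCatSheaf
  haveI : ∀ Y : X.Modules, PreservesColimitsOfShape (Discrete κ)
      ((DCoh.tensorBi (X := X)).flip.obj Y) := fun Y =>
    (Groth.Agent.Lib.Helper13.ModSiteFlat.preservesColimitsOfSize_flip
      X.sheaf Y).preservesColimitsOfShape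
  let G := (DCoh.tensorCx (X := X)).flip.obj K
  haveI : PreservesColimitsOfShape (Discrete κ) G :=
    Tot.preservesColimitsOfShape_map₁ (DCoh.tensorBi (X := X)) K
  let TK := DCoh.LTensorCx K
  suffices ∀ f : κ → DCoh.D X, PreservesColimit (Discrete.functor f) TK by
    exact preservesColimitsOfShape_of_discrete TK
  intro f
  choose P hP using fun k => exists_good_iso (f k)
  let e : ∀ k, Q.obj (P k) ≅ f k := fun k => (hP k).2.some
  haveI : PreservesColimit (Discrete.functor (fun k => Q.obj (P k))) TK := by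
    have hc := Groth.Agent.Lib.Helper13.QCohCoprod.isColimitCofanQ' P
    refine preservesColimit_of_preserves_colimit_cocone hc ?_
    refine (isColimitMapCoconeCofanMkEquiv TK _ _).symm ?_
    -- the colimit cofan `Q((∐ P) ⊗ K)`
    have hG : IsColimit (Cofan.mk (G.obj (∐ P)) (fun k => G.map (Sigma.ι P k))) :=
      (isColimitMapCoconeCofanMkEquiv G _ _) (isColimitOfPreserves G (coproductIsCoproduct P))
    have hQG := isColimitQOfIsColimit _ hG
    have g₀ := isIso_counitT_app K (∐ P) (good_sigma P (fun k => (hP k).1))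
    have g₁ := fun k => isIso_counitT_app K (P k) (hP k).1
    have nat : ∀ k, TK.map (Q.map (Sigma.ι P k)) ≫ (counitT K).app (∐ P) =
        (counitT K).app (P k) ≫ Q.map (G.map (Sigma.ι P k)) := fun k =>
      (counitT K).naturality (Sigma.ι P k)
    refine mkCofanColimit _
      (fun s => (counitT K).app (∐ P) ≫ Cofan.IsColimit.desc hQG
        (fun k => @inv _ _ _ _ ((counitT K).app (P k)) (g₁ k) ≫ s.inj k)) ?_ ?_
    · intro s k
      have h1 := Cofan.IsColimit.fac hQG
        (fun k => @inv _ _ _ _ ((counitT K).app (P k)) (g₁ k) ≫ s.inj k) k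
      dsimp at h1 ⊢
      rw [reassoc_of% (nat k), h1]
      haveI := g₁ k
      rw [IsIso.hom_inv_id_assoc]
    · intro s m hm
      haveI := g₀
      rw [← cancel_epi (inv ((counitT K).app (∐ P))), IsIso.inv_hom_id_assoc]
      apply Cofan.IsColimit.hom_ext hQG
      intro k
      have h1 := Cofan.IsColimit.fac hQG
        (fun k => @inv _ _ _ _ ((counitT K).app (P k)) (g₁ k) ≫ s.inj k) k
      dsimp at h1 ⊢
      rw [h1]
      haveI := g₁ k
      have h2 : Q.map (G.map (Sigma.ι P k)) ≫ inv ((counitT K).app (∐ P)) =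
          inv ((counitT K).app (P k)) ≫ TK.map (Q.map (Sigma.ι P k)) := by
        rw [← cancel_mono ((counitT K).app (∐ P)), Category.assoc, IsIso.inv_hom_id,
          Category.comp_id, Category.assoc, nat k, IsIso.inv_hom_id_assoc]
      rw [reassoc_of% h2]
      have h3 := hm k
      dsimp at h3
      rw [h3]
  exact preservesColimit_of_iso_diagram TK
    (Discrete.natIso (fun k => e k.as) :
      Discrete.functor (fun k => Q.obj (P k)) ≅ Discrete.functor f)

end Coprod

instance additive_LTensorCx : (DCoh.LTensorCx K).Additive := by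
  haveI : PreservesColimitsOfShape (Discrete PEmpty.{u + 1}) (DCoh.LTensorCx K) :=
    hcop_LTensorCx K
  haveI : PreservesColimitsOfShape (Discrete PEmpty.{1}) (DCoh.LTensorCx K) :=
    preservesColimitsOfShape_of_equiv
      (Discrete.equivalence (Equiv.equivOfIsEmpty PEmpty.{u + 1} PEmpty.{1})) _
  haveI : (DCoh.LTensorCx K).PreservesZeroMorphisms :=
    Functor.preservesZeroMorphisms_of_preserves_initial_object
  haveI : PreservesColimitsOfShape (Discrete (ULift.{u} WalkingPair)) (DCoh.LTensorCx K) :=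
    hcop_LTensorCx K
  haveI : PreservesColimitsOfShape (Discrete WalkingPair) (DCoh.LTensorCx K) :=
    preservesColimitsOfShape_of_equiv (Discrete.equivalence Equiv.ulift) _
  haveI : PreservesBinaryBiproducts (DCoh.LTensorCx K) :=
    preservesBinaryBiproducts_of_preservesBinaryCoproducts _
  exact Functor.additive_of_preservesBinaryBiproducts _

/-- **the internal `RHom(K, -)` exists**: `- ⊗^L K` is a left adjoint -/
theorem hasRSheafHom : DCoh.HasRSheafHom K := by
  haveI : IsGrothendieckAbelian.{u} X.Modules :=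
    Groth.Agent.Lib.Helper13.ModGrothendieck.isGrothendieckAbelian X.ringCatSheaf
  exact @BT.isLeftAdjoint_of_brown X.Modules _ _ _
    (Groth.Agent.Lib.Helper2.KInj.smallHasDerivedCategory X.Modules) (DCoh.D X) _ _
    DerivedCategory.Q _ (DCoh.LTensorCx K) _ (fun φ Z a ha => hex_LTensorCx K φ Z a ha)
    (fun κ => hcop_LTensorCx K)

end Groth.Agent.Lib.Helper2.RHom
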