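import Mathlib
import Groth.Agent.Lib.Helper2.KInjQ
import Groth.Agent.Lib.Helper13.KInjCompute

/-!
# Sequences of the derived category which are exact on `Hom(M[-m], -)` are exact on `H^m` (helper2)
-/

set_option autoImplicit false
universe w v u
open CategoryTheory CategoryTheory.Limits HomologicalComplex

namespace Groth.Agent.Lib.Helper2.RHom.HEx

variable {A : Type u} [Category.{v} A] [Abelian A] [HasDerivedCategory.{w} A]

open DerivedCategory

local notation "cc" => ComplexShape.up ℤ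

/-- the test objects `M[-m]` -/
noncomputable abbrev tst (M : A) (m : ℤ) : DerivedCategory A :=
  Q.obj ((single A cc m).obj M)

section Chain

variable {M : A} {m : ℤ}

lemma mkHomFromSingle_sub (K : CochainComplex A ℤ) (z₁ z₂ : M ⟶ K.X m)
    (h₁ : ∀ k, (ComplexShape.up ℤ).Rel m k → z₁ ≫ K.d m k = 0) (h₂ : ∀ k, (ComplexShape.up ℤ).Rel m k → z₂ ≫ K.d m k = 0) :
    mkHomFromSingle (z₁ - z₂) (fun k hk => by rw [Preadditive.sub_comp, h₁ k hk, h₂ k hk, sub_zero]) =
      mkHomFromSingle z₁ h₁ - mkHomFromSingle z₂ h₂ := by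
  apply from_single_hom_ext
  rw [mkHomFromSingle_f, HomologicalComplex.sub_f_apply, mkHomFromSingle_f, mkHomFromSingle_f,
    Preadditive.comp_sub]

lemma mkHomFromSingle_comp {K L : CochainComplex A ℤ} (z : M ⟶ K.X m)
    (hz : ∀ k, (ComplexShape.up ℤ).Rel m k → z ≫ K.d m k = 0) (φ : K ⟶ L) :
    mkHomFromSingle z hz ≫ φ = mkHomFromSingle (z ≫ φ.f m) (fun k hk => by
      rw [Category.assoc, φ.comm, reassoc_of% (hz k hk), zero_comp]) := by
  apply from_single_hom_ext
  rw [comp_f, mkHomFromSingle_f, mkHomFromSingle_f, Category.assoc]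

lemma mkHomFromSingle_precomp {M' : A} (π : M' ⟶ M) {K : CochainComplex A ℤ} (z : M ⟶ K.X m)
    (hz : ∀ k, (ComplexShape.up ℤ).Rel m k → z ≫ K.d m k = 0) :
    (single A cc m).map π ≫ mkHomFromSingle z hz = mkHomFromSingle (π ≫ z) (fun k hk => by
      rw [Category.assoc, hz k hk, comp_zero]) := by
  apply from_single_hom_ext
  rw [comp_f, mkHomFromSingle_f, mkHomFromSingle_f, single_map_f_self]
  simp

/-- a coboundary gives a null-homotopic map from a single-degree complex -/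
noncomputable def nullHomotopy (K : CochainComplex A ℤ) (i : ℤ) (hi : i + 1 = m) (w : M ⟶ K.X i) :
    Homotopy (mkHomFromSingle (w ≫ K.d i m) (fun k _ => by rw [Category.assoc, K.d_comp_d, comp_zero]))
      (0 : (single A cc m).obj M ⟶ K) where
  hom p q := if h : p = m ∧ q = i then
      eqToHom (by rw [h.1]) ≫ (singleObjXSelf cc m M).hom ≫ w ≫ eqToHom (by rw [h.2]) else 0
  zero p q hpq := by
    split_ifs with h
    · exact absurd (show q + 1 = p by omega) hpq
    · rfl
  comm p := by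
    by_cases hp : p = m
    · subst hp
      rw [zero_f, add_zero, mkHomFromSingle_f,
        prevD_eq _ (show (ComplexShape.up ℤ).Rel i p from hi),
        dNext_eq _ (show (ComplexShape.up ℤ).Rel p (p + 1) from rfl), single_obj_d, zero_comp, zero_add,
        dif_pos ⟨rfl, rfl⟩]
      simp
    · exact (isZero_single_obj_X cc m M p hp).eq_of_src _ _

lemma Q_map_mkHomFromSingle_boundary (K : CochainComplex A ℤ) (i : ℤ) (hi : i + 1 = m)
    (w : M ⟶ K.X i) (z : M ⟶ K.X m) (hz : ∀ k, (ComplexShape.up ℤ).Rel m k → z ≫ K.d m k = 0)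
    (h : z = w ≫ K.d i m) : Q.map (mkHomFromSingle z hz) = 0 := by
  subst h
  rw [DerivedCategory.Q_map_eq_of_homotopy A (nullHomotopy K i hi w), Functor.map_zero]

/-- every morphism from `M[-m]` to a K-injective complex is given by a cocycle -/
lemma exists_cocycle (L : CochainComplex A ℤ) [L.IsKInjective] (φ : tst M m ⟶ Q.obj L) :
    ∃ (z : M ⟶ L.X m) (hz : ∀ k, (ComplexShape.up ℤ).Rel m k → z ≫ L.d m k = 0),
      φ = Q.map (mkHomFromSingle z hz) := by
  obtain ⟨ψ, rfl⟩ := KInjQ.Q_map_surjective_of_isKInjective _ _ φ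
  have hz : ∀ k, (ComplexShape.up ℤ).Rel m k → ((singleObjXSelf cc m M).inv ≫ ψ.f m) ≫ L.d m k = 0 := by
    intro k _
    rw [Category.assoc, ψ.comm, single_obj_d, zero_comp, comp_zero]
  refine ⟨(singleObjXSelf cc m M).inv ≫ ψ.f m, hz, ?_⟩
  congr 1
  apply from_single_hom_ext
  rw [mkHomFromSingle_f, Iso.hom_inv_id_assoc]

/-- a cocycle of a K-injective complex giving the zero morphism in the derived category is a
coboundary -/
lemma exists_boundary (L : CochainComplex A ℤ) [L.IsKInjective] (z : M ⟶ L.X m)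
    (hz : ∀ k, (ComplexShape.up ℤ).Rel m k → z ≫ L.d m k = 0)
    (h0 : Q.map (mkHomFromSingle z hz) = 0) (i : ℤ) (hi : i + 1 = m) :
    ∃ y : M ⟶ L.X i, y ≫ L.d i m = z := by
  obtain ⟨h⟩ := KInjQ.homotopy_of_Q_map_eq _ _ (mkHomFromSingle z hz) 0
    (by rw [h0, Functor.map_zero])
  refine ⟨(singleObjXSelf cc m M).inv ≫ h.hom m i, ?_⟩
  have h1 := h.comm m
  rw [mkHomFromSingle_f, zero_f, add_zero,
    prevD_eq _ (show (ComplexShape.up ℤ).Rel i m from hi),
    dNext_eq _ (show (ComplexShape.up ℤ).Rel m (m + 1) from rfl), single_obj_d, zero_comp,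
    zero_add] at h1
  rw [Category.assoc, ← h1, Iso.inv_hom_id_assoc]

end Chain

/-- chain level version: a sequence of K-injective complexes which is exact on `Hom(M[-m], -)` for
all objects `M` is exact on `H^m`. -/
theorem exact_homologyMap_of_lifting {I₁ I₂ I₃ : CochainComplex A ℤ} [I₁.IsKInjective]
    [I₂.IsKInjective] (f : I₁ ⟶ I₂) (g : I₂ ⟶ I₃) (m : ℤ)
    (h : ∀ (M : A) (a : tst M m ⟶ Q.obj I₂), a ≫ Q.map g = 0 →
      ∃ b : tst M m ⟶ Q.obj I₁, b ≫ Q.map f = a)
    (w : homologyMap f m ≫ homologyMap g m = 0) :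
    (ShortComplex.mk (homologyMap f m) (homologyMap g m) w).Exact := by
  rw [ShortComplex.exact_iff_exact_up_to_refinements]
  intro M₀ x₂ hx₂
  dsimp at x₂ hx₂
  obtain ⟨M₁, π₁, hπ₁, z, hz, hzx⟩ :=
    I₂.eq_liftCycles_homologyπ_up_to_refinements x₂ (m + 1) (by simp)
  have hz' : (z ≫ g.f m) ≫ I₃.d m (m + 1) = 0 := by
    rw [Category.assoc, g.comm, reassoc_of% hz, zero_comp]
  have h1 : I₃.liftCycles (z ≫ g.f m) (m + 1) (by simp) hz' ≫ I₃.homologyπ m = 0 := by
    have : I₃.liftCycles (z ≫ g.f m) (m + 1) (by simp) hz' =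
        I₂.liftCycles z (m + 1) (by simp) hz ≫ cyclesMap g m := by
      rw [← cancel_mono (I₃.iCycles m)]
      simp
    rw [this, Category.assoc, ← homologyπ_naturality, ← Category.assoc, ← hzx, Category.assoc,
      hx₂, comp_zero]
  obtain ⟨M₂, π₂, hπ₂, w₃, hw₃⟩ :=
    (I₃.liftCycles_comp_homologyπ_eq_zero_iff_up_to_refinements (m - 1) m (m + 1) (by simp)
      (by simp) (z ≫ g.f m) hz').1 h1
  -- the morphism of the derived category attached to the cocycle
  have hz₂ : ∀ k, (ComplexShape.up ℤ).Rel m k → (π₂ ≫ z) ≫ I₂.d m k = 0 := by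
    intro k hk
    obtain rfl : m + 1 = k := hk
    rw [Category.assoc, hz, comp_zero]
  have ha : Q.map (mkHomFromSingle (π₂ ≫ z) hz₂) ≫ Q.map g = 0 := by
    rw [← Functor.map_comp, mkHomFromSingle_comp _ hz₂ g]
    apply Q_map_mkHomFromSingle_boundary I₃ (m - 1) (by omega) w₃
    rw [Category.assoc]
    exact hw₃
  obtain ⟨b, hb⟩ := h M₂ _ ha
  obtain ⟨y, hy, rfl⟩ := exists_cocycle I₁ b
  have hy' : ∀ k, (ComplexShape.up ℤ).Rel m k → (y ≫ f.f m - π₂ ≫ z) ≫ I₂.d m k = 0 := by
    intro k hk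
    rw [Preadditive.sub_comp, hz₂ k hk, sub_zero, Category.assoc, f.comm, reassoc_of% (hy k hk),
      zero_comp]
  have h0 : Q.map (mkHomFromSingle (y ≫ f.f m - π₂ ≫ z) hy') = 0 := by
    rw [mkHomFromSingle_sub _ _ _ (fun k hk => by
      rw [Category.assoc, f.comm, reassoc_of% (hy k hk), zero_comp]) hz₂, Functor.map_sub,
      ← mkHomFromSingle_comp y hy f, Functor.map_comp, hb, sub_self]
  obtain ⟨v, hv⟩ := exists_boundary I₂ _ hy' h0 (m - 1) (by omega)
  refine ⟨M₂, π₂ ≫ π₁, inferInstance,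
    I₁.liftCycles y (m + 1) (by simp) (hy (m + 1) rfl) ≫ I₁.homologyπ m, ?_⟩
  dsimp
  rw [Category.assoc, hzx, Category.assoc, homologyπ_naturality]
  have h2 : I₁.liftCycles y (m + 1) (by simp) (hy (m + 1) rfl) ≫ cyclesMap f m =
      I₂.liftCycles (y ≫ f.f m) (m + 1) (by simp) (by
        rw [Category.assoc, f.comm, reassoc_of% (hy (m + 1) rfl), zero_comp]) := by
    rw [← cancel_mono (I₂.iCycles m)]
    simp
  rw [reassoc_of% h2]
  have h3 : π₂ ≫ I₂.liftCycles z (m + 1) (by simp) hz =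
      I₂.liftCycles (π₂ ≫ z) (m + 1) (by simp) (hz₂ (m + 1) rfl) := by
    rw [← cancel_mono (I₂.iCycles m)]
    simp
  rw [reassoc_of% h3]
  symm
  rw [I₂.liftCycles_comp_homologyπ_eq_iff_up_to_refinements (m - 1) m (m + 1) (by simp) (by simp)]
  refine ⟨M₂, 𝟙 _, inferInstance, v, ?_⟩
  rw [Category.id_comp, Category.id_comp, hv]
  abel

/-- `H^m(Q K) ≅ H^m(K)` -/
noncomputable def hfI (K : CochainComplex A ℤ) (m : ℤ) :
    (DerivedCategory.homologyFunctor A m).obj (Q.obj K) ≅ K.homology m :=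
  (DerivedCategory.homologyFunctorFactors A m).app K

lemma factors_naturality {K L : CochainComplex A ℤ} (φ : K ⟶ L) (m : ℤ) :
    (DerivedCategory.homologyFunctor A m).map (Q.map φ) ≫ (hfI L m).hom =
      (hfI K m).hom ≫ homologyMap φ m :=
  (DerivedCategory.homologyFunctorFactors A m).hom.naturality φ

/-- a sequence of the derived category which is exact on `Hom(M[-m], -)` for all objects `M` is
exact on `H^m` -/
theorem exact_homology_of_lifting (hK : Groth.Agent.Lib.Helper13.KInjCompute.HasKInjInj A)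
    {Z₁ Z₂ Z₃ : DerivedCategory A} (f : Z₁ ⟶ Z₂) (g : Z₂ ⟶ Z₃) (w : f ≫ g = 0) (m : ℤ)
    (h : ∀ (M : A) (a : tst M m ⟶ Z₂), a ≫ g = 0 → ∃ b : tst M m ⟶ Z₁, b ≫ f = a) :
    (ShortComplex.mk ((DerivedCategory.homologyFunctor A m).map f)
      ((DerivedCategory.homologyFunctor A m).map g)
      (by rw [← Functor.map_comp, w, Functor.map_zero])).Exact := by
  obtain ⟨I₁, hI₁, -, ⟨e₁⟩⟩ := Groth.Agent.Lib.Helper13.KInjCompute.exists_model hK Z₁
  obtain ⟨I₂, hI₂, -, ⟨e₂⟩⟩ := Groth.Agent.Lib.Helper13.KInjCompute.exists_model hK Z₂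
  obtain ⟨I₃, hI₃, -, ⟨e₃⟩⟩ := Groth.Agent.Lib.Helper13.KInjCompute.exists_model hK Z₃
  haveI := hI₁
  haveI := hI₂
  haveI := hI₃
  obtain ⟨f', hf'⟩ := KInjQ.Q_map_surjective_of_isKInjective I₁ I₂ (e₁.inv ≫ f ≫ e₂.hom)
  obtain ⟨g', hg'⟩ := KInjQ.Q_map_surjective_of_isKInjective I₂ I₃ (e₂.inv ≫ g ≫ e₃.hom)
  have w' : homologyMap f' m ≫ homologyMap g' m = 0 := by
    have h1 : Q.map f' ≫ Q.map g' = 0 := by
      rw [hf', hg']
      simp [reassoc_of% w]
    have h2 := congrArg (fun t => (DerivedCategory.homologyFunctor A m).map t) h1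
    simp only [Functor.map_comp, Functor.map_zero] at h2
    have n1 := factors_naturality f' m
    have n2 := factors_naturality g' m
    rw [← cancel_epi (hfI I₁ m).hom, comp_zero,
      ← reassoc_of% n1, ← n2, reassoc_of% h2, zero_comp]
  have hex := exact_homologyMap_of_lifting f' g' m (by
    intro M a ha
    have ha' : (a ≫ e₂.inv) ≫ g = 0 := by
      have : a ≫ Q.map g' ≫ e₃.inv = 0 := by rw [reassoc_of% ha, zero_comp]
      rw [hg'] at this
      simpa using this
    obtain ⟨b, hb⟩ := h M (a ≫ e₂.inv) ha'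
    refine ⟨b ≫ e₁.hom, ?_⟩
    rw [hf', Category.assoc, Iso.hom_inv_id_assoc, reassoc_of% hb,
      Iso.inv_hom_id, Category.comp_id]) w'
  refine (ShortComplex.exact_iff_of_iso ?_).2 hex
  refine ShortComplex.isoMk
    ((DerivedCategory.homologyFunctor A m).mapIso e₁ ≪≫ hfI I₁ m)
    ((DerivedCategory.homologyFunctor A m).mapIso e₂ ≪≫ hfI I₂ m)
    ((DerivedCategory.homologyFunctor A m).mapIso e₃ ≪≫ hfI I₃ m) ?_ ?_
  · have n1 := factors_naturality f' m
    simp only [Iso.trans_hom, Functor.mapIso_hom, Category.assoc]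
    rw [← n1, hf']
    simp only [Functor.map_comp, Category.assoc]
    rw [← Functor.map_comp_assoc, Iso.hom_inv_id, CategoryTheory.Functor.map_id, Category.id_comp]
  · have n2 := factors_naturality g' m
    simp only [Iso.trans_hom, Functor.mapIso_hom, Category.assoc]
    rw [← n2, hg']
    simp only [Functor.map_comp, Category.assoc]
    rw [← Functor.map_comp_assoc, Iso.hom_inv_id, CategoryTheory.Functor.map_id, Category.id_comp]

end Groth.Agent.Lib.Helper2.RHom.HEx
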