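import Groth.Agent.Lib.Helper2.RHom.Exists
import Groth.Agent.Lib.Helper2.RHom.HEx
import Groth.Agent.Lib.Helper2.TExact.WeakSerre
import Groth.Agent.Lib.Helper2.Aff.QCohSerre
import Groth.Agent.Lib.Helper2.Aff.HomVanBase
import Groth.Agent.Lib.Helper13.KInjSch

/-!
# `RHom(F, -)` preserves `D_QCoh` for extensions (helper2)

If `0 → F' → F → F'' → 0` is a degreewise split short exact sequence of complexes and `RHom(F', -)`,
`RHom(F'', -)` preserve `D_QCoh`, then so does `RHom(F, -)`.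
-/

set_option autoImplicit false
universe u
open CategoryTheory CategoryTheory.Limits AlgebraicGeometry HomologicalComplex

namespace Groth.Agent.Lib.Helper2.RHom

namespace Mate

universe v₁ v₂ u₁ u₂

variable {C : Type u₁} {D : Type u₂} [Category.{v₁} C] [Category.{v₂} D]
  {L₁ L₂ L₃ : C ⥤ D} {R₁ R₂ R₃ : D ⥤ C}
  (adj₁ : L₁ ⊣ R₁) (adj₂ : L₂ ⊣ R₂) (adj₃ : L₃ ⊣ R₃)

lemma homEquiv_symm_comp_conj (α : L₂ ⟶ L₁) {A : C} {d : D} (a : A ⟶ R₁.obj d) :
    (adj₂.homEquiv A d).symm (a ≫ (conjugateEquiv adj₁ adj₂ α).app d) =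
      α.app A ≫ (adj₁.homEquiv A d).symm a := by
  rw [Adjunction.homEquiv_counit, Adjunction.homEquiv_counit, Functor.map_comp, Category.assoc,
    conjugateEquiv_counit, ← Category.assoc, α.naturality, Category.assoc]

lemma homEquiv_comp_conj (α : L₂ ⟶ L₁) {A : C} {d : D} (b : L₁.obj A ⟶ d) :
    adj₂.homEquiv A d (α.app A ≫ b) =
      adj₁.homEquiv A d b ≫ (conjugateEquiv adj₁ adj₂ α).app d := by
  apply (adj₂.homEquiv A d).symm.injective
  rw [Equiv.symm_apply_apply, homEquiv_symm_comp_conj, Equiv.symm_apply_apply]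

/-- exactness of the right adjoints from exactness of the left adjoints -/
lemma conj_exact [Limits.HasZeroMorphisms C] [Limits.HasZeroMorphisms D]
    (α : L₂ ⟶ L₁) (β : L₃ ⟶ L₂) (A : C) (d : D)
    (h : ∀ b : L₂.obj A ⟶ d, β.app A ≫ b = 0 → ∃ c : L₁.obj A ⟶ d, α.app A ≫ c = b)
    (h0 : (adj₃.homEquiv A d).symm 0 = 0)
    (a : A ⟶ R₂.obj d) (ha : a ≫ (conjugateEquiv adj₂ adj₃ β).app d = 0) :
    ∃ a' : A ⟶ R₁.obj d, a' ≫ (conjugateEquiv adj₁ adj₂ α).app d = a := by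
  have h1 : β.app A ≫ (adj₂.homEquiv A d).symm a = 0 := by
    rw [← homEquiv_symm_comp_conj adj₂ adj₃ β a, ha, h0]
  obtain ⟨c, hc⟩ := h _ h1
  refine ⟨adj₁.homEquiv A d c, ?_⟩
  rw [← homEquiv_comp_conj, hc, Equiv.apply_symm_apply]

lemma conj_comp_zero [Limits.HasZeroMorphisms C] [Limits.HasZeroMorphisms D]
    (α : L₂ ⟶ L₁) (β : L₃ ⟶ L₂) (d : D)
    (h : β.app (R₁.obj d) ≫ α.app (R₁.obj d) = 0)
    (h0 : (adj₃.homEquiv (R₁.obj d) d) 0 = 0) :
    (conjugateEquiv adj₁ adj₂ α).app d ≫ (conjugateEquiv adj₂ adj₃ β).app d = 0 := by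
  apply (adj₃.homEquiv _ _).symm.injective
  rw [homEquiv_symm_comp_conj]
  have h1 : (adj₂.homEquiv _ _).symm ((conjugateEquiv adj₁ adj₂ α).app d) =
      α.app _ ≫ (adj₁.homEquiv _ _).symm (𝟙 _) := by
    have := homEquiv_symm_comp_conj adj₁ adj₂ α (𝟙 (R₁.obj d))
    rwa [Category.id_comp] at this
  rw [h1, reassoc_of% h, zero_comp]
  exact ((adj₃.homEquiv _ _).eq_symm_apply).2 h0

end Mate

open Groth.Agent.Lib.Helper2.Stk Groth.Agent.Lib.Helper2.Stk.LT Groth.Agent.Lib.Helper2.Tot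
  Groth.Agent.Lib.Helper2.LDer DerivedCategory Pretriangulated
  Groth.Agent.Lib.Helper2.Aff Groth.Agent.Lib.Helper2.TExactIso
  Groth.Agent.Lib.Helper2.Aff.HomVan

attribute [local instance] HasDerivedCategory.standard
attribute [local instance] Groth.Agent.Lib.Helper2.Stk.LT.hasLTensorCx
attribute [local instance] Groth.Agent.Lib.Helper2.RHom.hasRSheafHom

variable {X : Scheme.{u}}

/-- `RHom(F, -)` preserves objects with quasi-coherent cohomology -/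
def PresQC (F : CochainComplex X.Modules ℤ) : Prop :=
  ∀ L : DCoh.D X, DCoh.IsQCohD L → DCoh.IsQCohD ((DCoh.RSheafHom F).obj L)

section SES

variable (S : ShortComplex (CochainComplex X.Modules ℤ))
  (hsplit : ∀ q : ℤ, Nonempty (S.map (eval X.Modules (ComplexShape.up ℤ) q)).Splitting)

/-- `- ⊗^L F'[1]` is left adjoint to `RHom(F', -[-1])` -/
noncomputable def adjShift (E : CochainComplex X.Modules ℤ) :
    DCoh.LTensorCx E ⋙ shiftFunctor (DCoh.D X) (1 : ℤ) ⊣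
      shiftFunctor (DCoh.D X) (-1 : ℤ) ⋙ DCoh.RSheafHom E :=
  (DCoh.RSheafHomAdj E).comp (shiftEquiv (DCoh.D X) (1 : ℤ)).toAdjunction

/-- `(- ⊗^L F'')[-1]` is left adjoint to `RHom(F'', -[1])` -/
noncomputable def adjShiftNeg (E : CochainComplex X.Modules ℤ) :
    DCoh.LTensorCx E ⋙ shiftFunctor (DCoh.D X) (-1 : ℤ) ⊣
      shiftFunctor (DCoh.D X) (1 : ℤ) ⋙ DCoh.RSheafHom E :=
  (DCoh.RSheafHomAdj E).comp (shiftEquiv (DCoh.D X) (1 : ℤ)).symm.toAdjunction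

/-- the desuspended connecting transformation -/
noncomputable def δTneg :
    DCoh.LTensorCx S.X₃ ⋙ shiftFunctor (DCoh.D X) (-1 : ℤ) ⟶ DCoh.LTensorCx S.X₁ where
  app A := ((δT S hsplit).app A)⟦(-1 : ℤ)⟧' ≫
    (shiftEquiv (DCoh.D X) (1 : ℤ)).unitIso.inv.app ((DCoh.LTensorCx S.X₁).obj A)
  naturality A B f := by
    have h1 := (δT S hsplit).naturality f
    have h2 := (shiftEquiv (DCoh.D X) (1 : ℤ)).unitIso.inv.naturality
      ((DCoh.LTensorCx S.X₁).map f)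
    dsimp at h1 h2 ⊢
    rw [← Functor.map_comp_assoc, h1, Functor.map_comp_assoc, Category.assoc]
    congr 1

lemma invRotate_mor₁ (A : DCoh.D X) :
    (triT S hsplit A).invRotate.mor₁ = -(δTneg S hsplit).app A := rfl

lemma neg_comp_eq_zero_iff {C : Type*} [Category C] [Preadditive C] {X₁ X₂ X₃ : C}
    (f : X₁ ⟶ X₂) (g : X₂ ⟶ X₃) : (-f) ≫ g = 0 ↔ f ≫ g = 0 := by
  rw [Preadditive.neg_comp, neg_eq_zero]

lemma δTneg_comp (A : DCoh.D X) : (δTneg S hsplit).app A ≫ (Tmap S.f).app A = 0 := by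
  have h := comp_distTriang_mor_zero₁₂ _
    (inv_rot_of_distTriang _ (triT_distinguished S hsplit A))
  have h2 : (-(δTneg S hsplit).app A) ≫ (Tmap S.f).app A = 0 := h
  exact (neg_comp_eq_zero_iff _ _).1 h2

lemma δTneg_exact (A Z : DCoh.D X) (b : (DCoh.LTensorCx S.X₁).obj A ⟶ Z)
    (hb : (δTneg S hsplit).app A ≫ b = 0) :
    ∃ c : (DCoh.LTensorCx S.X₂).obj A ⟶ Z, (Tmap S.f).app A ≫ c = b := by
  have hb' : (triT S hsplit A).invRotate.mor₁ ≫ b = 0 :=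
    (neg_comp_eq_zero_iff ((δTneg S hsplit).app A) b).2 hb
  obtain ⟨c, hc⟩ := Triangle.yoneda_exact₂ _
    (inv_rot_of_distTriang _ (triT_distinguished S hsplit A)) b hb'
  exact ⟨c, hc.symm⟩

/-- `RHom(F'', -) ⟶ RHom(F, -)` -/
noncomputable def pStar : DCoh.RSheafHom S.X₃ ⟶ DCoh.RSheafHom S.X₂ :=
  conjugateEquiv (DCoh.RSheafHomAdj S.X₃) (DCoh.RSheafHomAdj S.X₂) (Tmap S.g)

/-- `RHom(F, -) ⟶ RHom(F', -)` -/
noncomputable def iStar : DCoh.RSheafHom S.X₂ ⟶ DCoh.RSheafHom S.X₁ :=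
  conjugateEquiv (DCoh.RSheafHomAdj S.X₂) (DCoh.RSheafHomAdj S.X₁) (Tmap S.f)

/-- `RHom(F', -[-1]) ⟶ RHom(F'', -)` -/
noncomputable def bdry : shiftFunctor (DCoh.D X) (-1 : ℤ) ⋙ DCoh.RSheafHom S.X₁ ⟶
    DCoh.RSheafHom S.X₃ :=
  conjugateEquiv (adjShift S.X₁) (DCoh.RSheafHomAdj S.X₃) (δT S hsplit)

/-- `RHom(F', -) ⟶ RHom(F'', -[1])` -/
noncomputable def bdryPlus : DCoh.RSheafHom S.X₁ ⟶
    shiftFunctor (DCoh.D X) (1 : ℤ) ⋙ DCoh.RSheafHom S.X₃ :=
  conjugateEquiv (DCoh.RSheafHomAdj S.X₁) (adjShiftNeg S.X₃) (δTneg S hsplit)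

lemma homEquiv_zero {C D : Type*} [Category C] [Category D] [Preadditive C] [Preadditive D]
    {L : C ⥤ D} {R : D ⥤ C} (adj : L ⊣ R) [L.Additive] (A : C) (d : D) :
    adj.homEquiv A d 0 = 0 := by
  haveI := adj.right_adjoint_additive
  rw [Adjunction.homEquiv_unit, Functor.map_zero, comp_zero]

lemma homEquiv_symm_zero {C D : Type*} [Category C] [Category D] [Preadditive C] [Preadditive D]
    {L : C ⥤ D} {R : D ⥤ C} (adj : L ⊣ R) [L.Additive] (A : C) (d : D) :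
    (adj.homEquiv A d).symm 0 = 0 := by
  rw [Adjunction.homEquiv_counit, Functor.map_zero, zero_comp]

instance (E : CochainComplex X.Modules ℤ) (n : ℤ) :
    (DCoh.LTensorCx E ⋙ shiftFunctor (DCoh.D X) n).Additive := inferInstance

include hsplit in
/-- degreewise version: the five term exact sequence around `H^m RHom(F, L)` -/
theorem prop_HD_of_ses (P : ObjectProperty X.Modules) [WSerre.IsWeakSerre P] (L : DCoh.D X)
    (m : ℤ)
    (p1 : P (DCoh.HD ((DCoh.RSheafHom S.X₁).obj (L⟦(-1 : ℤ)⟧)) m))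
    (p2 : P (DCoh.HD ((DCoh.RSheafHom S.X₃).obj L) m))
    (p3 : P (DCoh.HD ((DCoh.RSheafHom S.X₁).obj L) m))
    (p4 : P (DCoh.HD ((DCoh.RSheafHom S.X₃).obj (L⟦(1 : ℤ)⟧)) m)) :
    P (DCoh.HD ((DCoh.RSheafHom S.X₂).obj L) m) := by
  have hK := Groth.Agent.Lib.Helper13.KInjSch.hasKInjInj X
  have hT : ∀ A, triT S hsplit A ∈ distTriang (DCoh.D X) := triT_distinguished S hsplit
  -- vanishing of the compositions
  have w₁ : (bdry S hsplit).app L ≫ (pStar S).app L = 0 := by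
    refine Mate.conj_comp_zero (adjShift S.X₁) (DCoh.RSheafHomAdj S.X₃) (DCoh.RSheafHomAdj S.X₂)
      (δT S hsplit) (Tmap S.g) L ?_ (homEquiv_zero _ _ _)
    exact comp_distTriang_mor_zero₂₃ _ (hT _)
  have w₂ : (pStar S).app L ≫ (iStar S).app L = 0 := by
    refine Mate.conj_comp_zero (DCoh.RSheafHomAdj S.X₃) (DCoh.RSheafHomAdj S.X₂)
      (DCoh.RSheafHomAdj S.X₁) (Tmap S.g) (Tmap S.f) L ?_ (homEquiv_zero _ _ _)
    exact comp_distTriang_mor_zero₁₂ _ (hT _)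
  have w₃ : (iStar S).app L ≫ (bdryPlus S hsplit).app L = 0 := by
    refine Mate.conj_comp_zero (DCoh.RSheafHomAdj S.X₂) (DCoh.RSheafHomAdj S.X₁)
      (adjShiftNeg S.X₃) (Tmap S.f) (δTneg S hsplit) L ?_ (homEquiv_zero _ _ _)
    exact δTneg_comp S hsplit _
  -- exactness
  have e₁ := HEx.exact_homology_of_lifting hK _ _ w₁ m (fun M a ha => by
    refine Mate.conj_exact (adjShift S.X₁) (DCoh.RSheafHomAdj S.X₃) (DCoh.RSheafHomAdj S.X₂)
      (δT S hsplit) (Tmap S.g) _ L ?_ (homEquiv_symm_zero _ _ _) a ha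
    intro b hb
    obtain ⟨c, hc⟩ := Triangle.yoneda_exact₂ _ (rot_of_distTriang _ (hT (HEx.tst M m))) b hb
    exact ⟨c, hc.symm⟩)
  have e₂ := HEx.exact_homology_of_lifting hK _ _ w₂ m (fun M a ha => by
    refine Mate.conj_exact (DCoh.RSheafHomAdj S.X₃) (DCoh.RSheafHomAdj S.X₂)
      (DCoh.RSheafHomAdj S.X₁) (Tmap S.g) (Tmap S.f) _ L ?_ (homEquiv_symm_zero _ _ _) a ha
    intro b hb
    obtain ⟨c, hc⟩ := Triangle.yoneda_exact₂ _ (hT (HEx.tst M m)) b hb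
    exact ⟨c, hc.symm⟩)
  have e₃ := HEx.exact_homology_of_lifting hK _ _ w₃ m (fun M a ha => by
    refine Mate.conj_exact (DCoh.RSheafHomAdj S.X₂) (DCoh.RSheafHomAdj S.X₁)
      (adjShiftNeg S.X₃) (Tmap S.f) (δTneg S hsplit) _ L ?_ (homEquiv_symm_zero _ _ _) a ha
    intro b hb
    exact δTneg_exact S hsplit _ _ b hb)
  exact prop_of_exact_five P _ _ _ _ _ _ _ e₁ e₂ e₃ p1 p2 p3 p4

include hsplit in
theorem presQC_of_ses (h₁ : PresQC S.X₁) (h₃ : PresQC S.X₃) : PresQC S.X₂ := by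
  intro L hL m
  exact prop_HD_of_ses S hsplit (fun M : X.Modules => Coh.IsQCoh M) L m
    (h₁ _ (isQCohD_shift L hL (-1)) m) (h₃ L hL m) (h₁ L hL m)
    (h₃ _ (isQCohD_shift L hL 1) m)

end SES

end Groth.Agent.Lib.Helper2.RHom
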