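import Groth.Agent.Lib.Helper2.Aff.TorStalk
import Groth.Agent.Lib.Helper17.PbFlatOver
import Groth.Agent.Lib.Helper2.Mon.PerfTensor

/-!
# Relative flatness of modules: restriction to opens, coproducts, tensoring with finite locally
free modules (helper2)
-/

set_option autoImplicit false
universe u
open CategoryTheory CategoryTheory.Limits AlgebraicGeometry TopologicalSpace Opposite

namespace Groth.Agent.Lib.Helper2.FlatOver

open Groth.Agent.Lib.Helper2.Stk Groth.Agent.Lib.Helper2.Mon Groth.Agent.Lib.Helper2.Aff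

section Alg
variable {R B C : Type u} [CommRing R] [CommRing B] [CommRing C]

/-- transfer of flatness over `R` along a semilinear isomorphism -/
lemma flat_transfer (σ : R →+* B) (ρ : R →+* C) (ψ : B →+* C) (h : ∀ r, ψ (σ r) = ρ r)
    (T : ModuleCat.{u} B) (N : ModuleCat.{u} C) (e : T ≅ (ModuleCat.restrictScalars ψ).obj N) :
    (letI := Module.compHom T σ; Module.Flat R T) ↔
      (letI := Module.compHom N ρ; Module.Flat R N) := by
  letI m1 : Module R T := Module.compHom T σ
  letI m2 : Module R N := Module.compHom N ρ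
  let f : T ≃+ N :=
    { toFun := fun t => e.hom.hom t
      invFun := fun n => e.inv.hom n
      left_inv := fun t => by
        have := congrArg (fun k => k.hom t) e.hom_inv_id
        exact this
      right_inv := fun n => by
        have := congrArg (fun k => k.hom n) e.inv_hom_id
        exact this
      map_add' := fun a b => map_add e.hom.hom a b }
  have hf : ∀ (r : R) (t : T), f (r • t) = r • f t := by
    intro r t
    show e.hom.hom (σ r • t) = ρ r • e.hom.hom t
    rw [map_smul]
    show ψ (σ r) • (show (N : Type u) from e.hom.hom t) = ρ r • e.hom.hom t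
    rw [h]
    rfl
  exact ⟨fun hT => Module.Flat.of_linearEquiv (f.toLinearEquiv hf).symm,
    fun hN => Module.Flat.of_linearEquiv (f.toLinearEquiv hf)⟩

open DirectSum in
/-- a coproduct of modules flat over `R` is flat over `R` -/
lemma flat_of_isColimit_cofan (σ : R →+* B) {ι : Type} (Z : ι → ModuleCat.{u} B) (c : Cofan Z)
    (hc : IsColimit c)
    (h : ∀ i, (letI := Module.compHom (Z i) σ; Module.Flat R (Z i))) :
    (letI := Module.compHom c.pt σ; Module.Flat R c.pt) := by
  classical
  letI m1 : Module R c.pt := Module.compHom c.pt σ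
  letI m2 : ∀ i, Module R (Z i) := fun i => Module.compHom (Z i) σ
  haveI : ∀ i, Module.Flat R (Z i) := h
  let e : c.pt ≅ ModuleCat.of B (⨁ i, Z i) :=
    hc.coconePointUniqueUpToIso (ModuleCat.coproductCoconeIsColimit.{u, 0, u} Z)
  let f : c.pt ≃+ (⨁ i, Z i) :=
    { toFun := fun t => e.hom.hom t
      invFun := fun n => e.inv.hom n
      left_inv := fun t => by
        have := congrArg (fun k => k.hom t) e.hom_inv_id
        exact this
      right_inv := fun n => by
        have := congrArg (fun k => k.hom n) e.inv_hom_id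
        exact this
      map_add' := fun a b => map_add e.hom.hom a b }
  have hs : ∀ (r : R) (x : ⨁ i, Z i), (σ r) • x = r • x := by
    intro r x
    induction x using DirectSum.induction_on with
    | zero => rw [smul_zero, smul_zero]
    | of i z =>
      rw [← DirectSum.of_smul, ← DirectSum.of_smul]
      rfl
    | add a b ha hb => rw [smul_add, smul_add, ha, hb]
  have hf : ∀ (r : R) (t : c.pt), f (r • t) = r • f t := by
    intro r t
    show e.hom.hom (σ r • t) = r • e.hom.hom t
    rw [map_smul]
    exact hs r _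
  exact Module.Flat.of_linearEquiv (f.toLinearEquiv hf)

end Alg

section Restrict
variable {U Y S : Scheme.{u}} (j : U ⟶ Y) [IsOpenImmersion j] (g : Y ⟶ S) (A : Y.Modules) (y : U)

/-- the inverse of the stalk map of an open immersion -/
noncomputable abbrev ψst : U.presheaf.stalk y →+* Y.presheaf.stalk (j.base y) :=
  (inv (j.stalkMap y)).hom

lemma ψst_φst (a : Y.presheaf.stalk (j.base y)) : ψst j y (φst j y a) = a := by
  change (j.stalkMap y ≫ inv (j.stalkMap y)).hom a = a
  rw [IsIso.hom_inv_id]
  rfl

lemma φst_ψst (b : U.presheaf.stalk y) : φst j y (ψst j y b) = b := by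
  change (inv (j.stalkMap y) ≫ j.stalkMap y).hom b = b
  rw [IsIso.inv_hom_id]
  rfl

/-- the stalk of the restriction to an open, linearly -/
lemma nonempty_stalk_restrict_iso :
    Nonempty ((Φ y).obj ((Scheme.Modules.restrictFunctor j).obj A) ≅
      (ModuleCat.restrictScalars (ψst j y)).obj ((Φ (j.base y)).obj A)) := by
  obtain ⟨c⟩ := nonempty_extendScalars_iso_restrictScalars (φst j y) (ψst j y) (ψst_φst j y)
    (φst_ψst j y) ((Φ (j.base y)).obj A)
  exact ⟨(Φ y).mapIso ((Scheme.Modules.restrictFunctorIsoPullback j).app A) ≪≫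
    (pullStalkIso j y).app A ≪≫ c⟩

/-- relative flatness can be tested after restriction to an open -/
theorem isFlatOverAt_restrict_iff :
    FlatMod.IsFlatOverAt (j ≫ g) ((Scheme.Modules.restrictFunctor j).obj A) y ↔
      FlatMod.IsFlatOverAt g A (j.base y) := by
  obtain ⟨e⟩ := nonempty_stalk_restrict_iso j A y
  have hc : ∀ r : S.presheaf.stalk (g.base (j.base y)),
      ψst j y (((j ≫ g).stalkMap y).hom r) = (g.stalkMap (j.base y)).hom r := by
    intro r
    have h1 : ((j ≫ g).stalkMap y).hom r = φst j y ((g.stalkMap (j.base y)).hom r) := by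
      rw [Scheme.Hom.stalkMap_comp]
      rfl
    rw [h1, ψst_φst]
  exact flat_transfer (σ := ((j ≫ g).stalkMap y).hom) (ρ := (g.stalkMap (j.base y)).hom)
    (ψ := ψst j y) hc _ _ e

end Restrict

section Coprod
variable {X S : Scheme.{u}} (g : X ⟶ S)

/-- a coproduct of modules flat over `S` is flat over `S` -/
theorem isFlatOver_of_isColimit_cofan {ι : Type} (M : ι → X.Modules) (c : Cofan M)
    (hc : IsColimit c) (h : ∀ i, FlatMod.IsFlatOver g (M i)) : FlatMod.IsFlatOver g c.pt := by
  intro y
  have hc0 : IsColimit (Cofan.mk c.pt c.inj) :=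
    hc.ofIsoColimit (Cocones.ext (Iso.refl _) (by rintro ⟨i⟩; simp [Cofan.inj]))
  have hc1 : IsColimit (Cofan.mk ((Φ y).obj c.pt) (fun i => (Φ y).map (c.inj i))) :=
    isColimitCofanMkObjOfIsColimit (Φ y) _ _ hc0
  exact flat_of_isColimit_cofan ((g.stalkMap y).hom) _ _ hc1 (fun i => h i y)

/-- tensoring with a finite locally free module preserves flatness over `S` -/
theorem isFlatOver_tensor (A B : X.Modules) (hA : FlatMod.IsFinLocFree A)
    (hB : FlatMod.IsFlatOver g B) :
    FlatMod.IsFlatOver g (((DCoh.tensorBi (X := X)).obj A).obj B) := by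
  intro y
  obtain ⟨U, n, hyU, ⟨φ⟩⟩ := hA y
  let y' : (U : Scheme.{u}) := ⟨y, hyU⟩
  have hy : U.ι.base y' = y := rfl
  rw [← hy, ← isFlatOverAt_restrict_iff U.ι g _ y']
  let BU := (Scheme.Modules.restrictFunctor U.ι).obj B
  let T : (U : Scheme.{u}).Modules ⥤ (U : Scheme.{u}).Modules :=
    (DCoh.tensorBi (X := (U : Scheme.{u}))).flip.obj BU
  haveI : PreservesColimitsOfSize.{u, u} T :=
    Groth.Agent.Lib.Helper13.ModSiteFlat.preservesColimitsOfSize_flip (OX (U : Scheme.{u})) BU
  haveI : PreservesColimitsOfSize.{0, 0} T := preservesSmallestColimits_of_preservesColimits.{u, u} _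
  let e1 : (Scheme.Modules.restrictFunctor U.ι).obj (((DCoh.tensorBi (X := X)).obj A).obj B) ≅
      T.obj ((Scheme.Modules.restrictFunctor U.ι).obj A) := (resTensorIso' U.ι A B).symm
  let e2 : T.obj ((Scheme.Modules.restrictFunctor U.ι).obj A) ≅
      T.obj (FlatMod.freeMod (U : Scheme.{u}) n) := T.mapIso φ
  let e3 : T.obj (FlatMod.freeMod (U : Scheme.{u}) n) ≅
      ∐ fun _ : Fin n => T.obj (Coh.structureModule (U : Scheme.{u})) :=
    PreservesCoproduct.iso T (fun _ : Fin n => Coh.structureModule (U : Scheme.{u}))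
  let e4 : T.obj (Coh.structureModule (U : Scheme.{u})) ≅ BU :=
    (Groth.Agent.Lib.Helper13.ModSiteUnitor.leftUnitorIso (OX (U : Scheme.{u}))).app BU
  let e : (Scheme.Modules.restrictFunctor U.ι).obj (((DCoh.tensorBi (X := X)).obj A).obj B) ≅
      ∐ fun _ : Fin n => BU := e1 ≪≫ e2 ≪≫ e3 ≪≫ Sigma.mapIso (fun _ => e4)
  apply Groth.Agent.Lib.Helper17.PbFlatOver.isFlatOverAt_of_iso (U.ι ≫ g) e.symm y'
  have hBU : FlatMod.IsFlatOver (U.ι ≫ g) BU := fun z =>
    (isFlatOverAt_restrict_iff U.ι g B z).2 (hB _)
  exact isFlatOver_of_isColimit_cofan (U.ι ≫ g) (fun _ : Fin n => BU) _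
    (coproductIsCoproduct (fun _ : Fin n => BU)) (fun _ => hBU) y'

end Coprod

end Groth.Agent.Lib.Helper2.FlatOver
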