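import Groth.Agent.Lib.Helper2.RHom.PCoh

/-!
# `RHom(K, L)` for pseudo-coherent `K`: general local weak Serre classes (helper2)

The arguments of `PerfQC` and `PCoh` for a general local weak Serre class of modules (for instance
coherent modules on locally Noetherian schemes).
-/

set_option autoImplicit false
universe u
open CategoryTheory CategoryTheory.Limits AlgebraicGeometry HomologicalComplex

namespace Groth.Agent.Lib.Helper2.RHom

open Groth.Agent.Lib.Helper2.Stk Groth.Agent.Lib.Helper2.Stk.LT Groth.Agent.Lib.Helper2.Tot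
  Groth.Agent.Lib.Helper2.LDer DerivedCategory Pretriangulated
  Groth.Agent.Lib.Helper2.Aff Groth.Agent.Lib.Helper2.TExactIso
  Groth.Agent.Lib.Helper2.Aff.HomVan Groth.Agent.Lib.Helper2.Aff.Sigma

attribute [local instance] HasDerivedCategory.standard
attribute [local instance] Groth.Agent.Lib.Helper2.Stk.LT.hasLTensorCx
attribute [local instance] Groth.Agent.Lib.Helper2.RHom.hasRSheafHom

/-- a weak Serre class of modules on the schemes satisfying `S`, local for the Zariski topology -/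
structure LocClass where
  S : Scheme.{u} → Prop
  P : ∀ (Y : Scheme.{u}), ObjectProperty Y.Modules
  S_open : ∀ {Y : Scheme.{u}} (V : Y.Opens), S Y → S V
  serre : ∀ {Y : Scheme.{u}}, S Y → WSerre.IsWeakSerre (P Y)
  restrict : ∀ {Y : Scheme.{u}} (_ : S Y) (V : Y.Opens) (M : Y.Modules), P Y M →
    P V ((Scheme.Modules.restrictFunctor V.ι).obj M)
  of_cover : ∀ {Y : Scheme.{u}} (_ : S Y) (M : Y.Modules),
    (∀ x : Y, ∃ V : Y.Opens, x ∈ V ∧ P V ((Scheme.Modules.restrictFunctor V.ι).obj M)) → P Y M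

namespace LocClass

variable (𝒞 : LocClass.{u}) {X : Scheme.{u}}

/-- the objects of `D(O_X)` with cohomology sheaves in the class -/
def IsPD (L : DCoh.D X) : Prop := ∀ i : ℤ, 𝒞.P X (DCoh.HD L i)

/-- `RHom(K, -)` preserves objects with cohomology in the class -/
def Pres (K : CochainComplex X.Modules ℤ) : Prop :=
  ∀ L : DCoh.D X, 𝒞.IsPD L → 𝒞.IsPD ((DCoh.RSheafHom K).obj L)

section

variable {𝒞} (hX : 𝒞.S X)
include hX

lemma prop_of_iso {M N : X.Modules} (e : M ≅ N) (h : 𝒞.P X M) : 𝒞.P X N := by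
  haveI := 𝒞.serre hX
  exact (𝒞.P X).prop_of_iso e h

lemma prop_of_isZero {M : X.Modules} (h : IsZero M) : 𝒞.P X M := by
  haveI := 𝒞.serre hX
  exact (𝒞.P X).prop_of_isZero h

lemma isPD_of_iso {L L' : DCoh.D X} (e : L ≅ L') (h : 𝒞.IsPD L) : 𝒞.IsPD L' := fun i =>
  prop_of_iso hX ((DerivedCategory.homologyFunctor _ i).mapIso e) (h i)

lemma isPD_of_isZero {L : DCoh.D X} (h : IsZero L) : 𝒞.IsPD L := fun i =>
  prop_of_isZero hX ((DerivedCategory.homologyFunctor _ i).map_isZero h)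

lemma isPD_shift {L : DCoh.D X} (h : 𝒞.IsPD L) (n : ℤ) : 𝒞.IsPD (L⟦n⟧) := fun i =>
  prop_of_iso hX (homologyShiftIso L n i).symm (h (n + i))

lemma isPD_restrictD {L : DCoh.D X} (h : 𝒞.IsPD L) (V : X.Opens) :
    𝒞.IsPD ((DCoh.restrictD V.ι).obj L) := by
  intro i
  obtain ⟨e⟩ := Groth.Agent.Lib.Helper13.OpenEquivSupp.nonempty_HD_restrictD_iso V.ι L i
  exact prop_of_iso (𝒞.S_open V hX) e.symm (𝒞.restrict hX V _ (h i))

lemma pres_of_adj {K : CochainComplex X.Modules ℤ} (G : DCoh.D X ⥤ DCoh.D X)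
    (adj : DCoh.LTensorCx K ⊣ G) (hG : ∀ L, 𝒞.IsPD L → 𝒞.IsPD (G.obj L)) : 𝒞.Pres K := by
  intro L hL
  have φ : G ≅ DCoh.RSheafHom K := adj.rightAdjointUniq (DCoh.RSheafHomAdj K)
  exact isPD_of_iso hX (φ.app L) (hG L hL)

lemma pres_of_iso {K K' : CochainComplex X.Modules ℤ} (e : DCoh.toD X K ≅ DCoh.toD X K')
    (h : 𝒞.Pres K) : 𝒞.Pres K' := by
  obtain ⟨φ⟩ := nonempty_LTensorCx_iso_of_iso e
  exact pres_of_adj hX (DCoh.RSheafHom K) ((DCoh.RSheafHomAdj K).ofNatIsoLeft φ) h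

lemma pres_of_cxIso {K K' : CochainComplex X.Modules ℤ} (e : K ≅ K') (h : 𝒞.Pres K) :
    𝒞.Pres K' :=
  pres_of_iso hX (DerivedCategory.Q.mapIso e) h

lemma pres_of_isZero {K : CochainComplex X.Modules ℤ} (hK : IsZero K) : 𝒞.Pres K := by
  intro L _
  apply isPD_of_isZero hX
  rw [IsZero.iff_id_eq_zero]
  apply ((DCoh.RSheafHomAdj K).homEquiv _ _).symm.injective
  rw [homEquiv_symm_zero]
  exact (isZero_LTensorCx_obj hK _).eq_of_src _ _

theorem pres_unit : 𝒞.Pres (sgl (ModSite.unit X.sheaf) : CochainComplex X.Modules ℤ) :=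
  pres_of_adj hX (𝟭 _) (Adjunction.id.ofNatIsoLeft unitLIso) (fun _ hL => hL)

theorem pres_shift {K : CochainComplex X.Modules ℤ} (h : 𝒞.Pres K) (y : ℤ) : 𝒞.Pres (K⟦y⟧) :=
  pres_of_adj hX (shiftFunctor (DCoh.D X) (-y) ⋙ DCoh.RSheafHom K)
    (((DCoh.RSheafHomAdj K).comp (shiftEquiv (DCoh.D X) y).toAdjunction).ofNatIsoLeft
      (LTshiftIso K y))
    (fun L hL => h _ (isPD_shift hX hL (-y)))

theorem pres_of_ses (S : ShortComplex (CochainComplex X.Modules ℤ))
    (hsplit : ∀ q : ℤ, Nonempty (S.map (eval X.Modules (ComplexShape.up ℤ) q)).Splitting)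
    (h₁ : 𝒞.Pres S.X₁) (h₃ : 𝒞.Pres S.X₃) : 𝒞.Pres S.X₂ := by
  intro L hL m
  haveI := 𝒞.serre hX
  exact prop_HD_of_ses S hsplit (𝒞.P X) L m
    (h₁ _ (isPD_shift hX hL (-1)) m) (h₃ L hL m) (h₁ L hL m)
    (h₃ _ (isPD_shift hX hL 1) m)

/-- locality of a single cohomology sheaf of `RHom(K, L)` -/
theorem prop_HD_RSheafHom_of_locally (K : CochainComplex X.Modules ℤ) (L : DCoh.D X) (j : ℤ)
    (h : ∀ x : X, ∃ U : X.Opens, x ∈ U ∧ 𝒞.P U (DCoh.HD
      ((DCoh.RSheafHom ((resC U).obj K)).obj ((DCoh.restrictD U.ι).obj L)) j)) :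
    𝒞.P X (DCoh.HD ((DCoh.RSheafHom K).obj L) j) := by
  apply 𝒞.of_cover hX
  intro x
  obtain ⟨U, hxU, hU⟩ := h x
  refine ⟨U, hxU, ?_⟩
  obtain ⟨e⟩ := Groth.Agent.Lib.Helper13.OpenEquivSupp.nonempty_HD_restrictD_iso U.ι
    ((DCoh.RSheafHom K).obj L) j
  have e' := (restrictRSheafHomIso U K).app L
  exact prop_of_iso (𝒞.S_open U hX)
    ((DerivedCategory.homologyFunctor _ j).mapIso e'.symm ≪≫ e) hU

theorem pres_of_locally {K : CochainComplex X.Modules ℤ}
    (h : ∀ x : X, ∃ U : X.Opens, x ∈ U ∧ 𝒞.Pres ((resC U).obj K)) : 𝒞.Pres K := by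
  intro L hL j
  apply prop_HD_RSheafHom_of_locally hX
  intro x
  obtain ⟨U, hxU, hU⟩ := h x
  exact ⟨U, hxU, hU _ (isPD_restrictD hX hL U) j⟩

end

/-- the property of a module `M`: `RHom(M[-a], -)` preserves the class for all `a` -/
def PQ (𝒞 : LocClass.{u}) (X : Scheme.{u}) : ObjectProperty X.Modules := fun M =>
  ∀ a : ℤ, 𝒞.Pres ((single X.Modules (ComplexShape.up ℤ) a).obj M)

section

variable {𝒞} (hX : 𝒞.S X)
include hX

lemma pq_of_iso {M N : X.Modules} (e : M ≅ N) (h : 𝒞.PQ X M) : 𝒞.PQ X N := fun a =>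
  pres_of_cxIso hX ((single X.Modules (ComplexShape.up ℤ) a).mapIso e) (h a)

lemma pq_of_isZero (M : X.Modules) (h : IsZero M) : 𝒞.PQ X M := fun a =>
  pres_of_isZero hX ((single X.Modules (ComplexShape.up ℤ) a).map_isZero h)

lemma pq_unit : 𝒞.PQ X (Coh.structureModule X) := by
  intro a
  have e := ((CochainComplex.singleFunctors X.Modules).shiftIso (-a) a 0 (by omega)).app
    (Coh.structureModule X)
  exact pres_of_cxIso hX e (pres_shift hX (pres_unit hX) (-a))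

lemma pq_biprod (M₁ M₂ : X.Modules) (h₁ : 𝒞.PQ X M₁) (h₂ : 𝒞.PQ X M₂) : 𝒞.PQ X (M₁ ⊞ M₂) := by
  intro a
  let S₀ : ShortComplex X.Modules :=
    ShortComplex.mk (biprod.inl : M₁ ⟶ M₁ ⊞ M₂) (biprod.snd : M₁ ⊞ M₂ ⟶ M₂) (by simp)
  let σ : S₀.Splitting := ShortComplex.Splitting.ofHasBinaryBiproduct M₁ M₂
  have h := pres_of_ses hX (S₀.map (single X.Modules (ComplexShape.up ℤ) a))
    (fun q => ⟨(σ.map (single X.Modules (ComplexShape.up ℤ) a)).map
      (eval X.Modules (ComplexShape.up ℤ) q)⟩) (h₁ a) (h₂ a)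
  exact h

lemma pq_free (n : ℕ) : 𝒞.PQ X (FlatMod.freeMod X n) := by
  haveI : (𝒞.PQ X).IsClosedUnderIsomorphisms := ⟨fun e h => pq_of_iso hX e h⟩
  haveI : (𝒞.PQ X).ContainsZero :=
    ⟨⟨(single X.Modules (ComplexShape.up ℤ) 0).obj (Coh.structureModule X) |>.X 1,
      isZero_single_obj_X _ _ _ _ (by omega),
      pq_of_isZero hX _ (isZero_single_obj_X _ _ _ _ (by omega))⟩⟩
  haveI : (𝒞.PQ X).IsClosedUnderBinaryCoproducts := ⟨by
    rintro M ⟨h⟩
    let M₁ := h.diag.obj ⟨WalkingPair.left⟩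
    let M₂ := h.diag.obj ⟨WalkingPair.right⟩
    have hc : IsColimit ((Cocone.precompose (diagramIsoPair h.diag).hom).obj
        (BinaryBiproduct.bicone M₁ M₂).toCocone) :=
      (IsColimit.precomposeHomEquiv (diagramIsoPair h.diag) _).symm
        (BinaryBiproduct.isColimit M₁ M₂)
    have e : M₁ ⊞ M₂ ≅ M := IsColimit.coconePointUniqueUpToIso hc h.isColimit
    exact pq_of_iso hX e (pq_biprod hX M₁ M₂ (h.prop_diag_obj _) (h.prop_diag_obj _))⟩
  haveI : (𝒞.PQ X).IsClosedUnderFiniteCoproducts :=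
    ObjectProperty.IsClosedUnderFiniteCoproducts.mk'
  exact (𝒞.PQ X).prop_coproduct (fun _ => pq_unit hX)

lemma pq_of_isFinLocFree (M : X.Modules) (hM : FlatMod.IsFinLocFree M) : 𝒞.PQ X M := by
  intro a
  apply pres_of_locally hX
  intro x
  obtain ⟨U, n, hxU, ⟨e⟩⟩ := hM x
  refine ⟨U, hxU, ?_⟩
  have e1 : (resC U).obj ((single X.Modules (ComplexShape.up ℤ) a).obj M) ≅
      (single _ (ComplexShape.up ℤ) a).obj ((jst U).obj M) :=
    (HomologicalComplex.singleMapHomologicalComplex (jst U) (ComplexShape.up ℤ) a).app M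
  have e2 : (single _ (ComplexShape.up ℤ) a).obj ((jst U).obj M) ≅
      (single _ (ComplexShape.up ℤ) a).obj (FlatMod.freeMod (↑U) n) :=
    (single _ (ComplexShape.up ℤ) a).mapIso e
  exact pres_of_cxIso (𝒞.S_open U hX) (e1 ≪≫ e2).symm (pq_free (𝒞.S_open U hX) n a)

theorem pres_of_bounded : ∀ (n : ℕ) (E : CochainComplex X.Modules ℤ) (m : ℤ),
    (∀ i, i < m → IsZero (E.X i)) → (∀ i, m + n ≤ i → IsZero (E.X i)) →
    (∀ i, 𝒞.PQ X (E.X i)) → 𝒞.Pres E := by
  intro n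
  induction n with
  | zero =>
    intro E m hlo hhi _
    apply pres_of_isZero hX
    apply isZero_of_X
    intro i
    by_cases hi : i < m
    · exact hlo i hi
    · exact hhi i (by simp; omega)
  | succ n ih =>
    intro E m hlo hhi hP
    refine pres_of_ses hX (truncSC E m hlo) (truncSC_split E m hlo) ?_ (hP m m)
    refine ih (sigmaGE E (m + 1)) (m + 1) ?_ ?_ ?_
    · intro i hi
      exact isZero_sgX (by omega)
    · intro i hi
      have hi' : m + 1 ≤ i := by omega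
      exact IsZero.of_iso (hhi i (by push_cast; omega))
        (@asIso _ _ _ _ (sgι E (m + 1) i) (isIso_sgι hi'))
    · intro i
      exact sigmaGE_X_prop' E (m + 1) (fun M => 𝒞.PQ X M) (fun e h => pq_of_iso hX e h)
        (pq_of_isZero hX) hP i

theorem pres_of_isStrictlyPerfect (E : CochainComplex X.Modules ℤ)
    (hE : DCoh.IsStrictlyPerfect E) : 𝒞.Pres E := by
  obtain ⟨⟨a, b, hab⟩, hflf⟩ := hE
  refine pres_of_bounded hX (b + 1 - a).toNat E a (fun i hi => hab i (Or.inl hi)) ?_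
    (fun i => pq_of_isFinLocFree hX _ (hflf i))
  intro i hi
  have := Int.self_le_toNat (b + 1 - a)
  exact hab i (Or.inr (by omega))

open CochainComplex in
/-- chain level approximation -/
theorem prop_HD_of_approx {E K : CochainComplex X.Modules ℤ} (g : E ⟶ K) (n : ℤ)
    (hiso : ∀ i, n < i → IsIso ((homologyFunctor X.Modules i).map (Q.map g)))
    (hepi : Epi ((homologyFunctor X.Modules n).map (Q.map g)))
    (hE : 𝒞.Pres E) (L : DCoh.D X) (hL : 𝒞.IsPD L) (r : ℤ) (hr : L.IsGE r) (j : ℤ)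
    (hj : j < r - n) :
    𝒞.P X (DCoh.HD ((DCoh.RSheafHom K).obj L) j) := by
  have hsplit : ∀ q, Nonempty (((mappingCone.triangleRotateShortComplex
      (mappingCocone.fst g)).map (eval _ _ q)).Splitting) :=
    fun q => ⟨mappingCone.triangleRotateShortComplexSplitting (mappingCocone.fst g) q⟩
  have hC : (Q.obj (mappingCocone g)).IsLE n := isLE_Q_mappingCocone g n hiso hepi
  have hX₃ : (DCoh.toD X ((mappingCocone g)⟦(1 : ℤ)⟧)).IsLE (n - 1) := by
    have e : Q.obj ((mappingCocone g)⟦(1 : ℤ)⟧) ≅ (Q.obj (mappingCocone g))⟦(1 : ℤ)⟧ :=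
      ((Q (C := X.Modules)).commShiftIso (1 : ℤ)).app _
    haveI : ((Q.obj (mappingCocone g))⟦(1 : ℤ)⟧).IsLE (n - 1) :=
      TStructure.t.isLE_shift _ n 1 (n - 1) (by omega)
    exact TStructure.t.isLE_of_iso e.symm _
  have hmid : Nonempty (DCoh.toD X (mappingCone (mappingCocone.fst g)) ≅ DCoh.toD X K) := by
    have hT₁ := mappingCone_triangle_distinguished (mappingCocone.fst g)
    have hT₂ := mappingCocone_triangle_distinguished g
    obtain ⟨e', _, _⟩ := exists_iso_of_arrow_iso _ _ hT₁ hT₂ (Iso.refl _)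
    exact ⟨Triangle.π₃.mapIso e'⟩
  obtain ⟨emid⟩ := hmid
  obtain ⟨ψ⟩ := nonempty_RSheafHom_iso_of_iso emid
  refine prop_of_iso hX ((homologyFunctor _ j).mapIso (ψ.app L)) ?_
  haveI := 𝒞.serre hX
  refine prop_HD_of_ses (mappingCone.triangleRotateShortComplex (mappingCocone.fst g)) hsplit
    (𝒞.P X) L j ?_ ?_ ?_ ?_
  · exact hE _ (isPD_shift hX hL (-1)) j
  · exact prop_of_isZero hX
      (isZero_HD_RSheafHom ((mappingCocone g)⟦(1 : ℤ)⟧) (n - 1) hX₃ L r hr j (by omega))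
  · exact hE L hL j
  · haveI := hr
    have hr' : (L⟦(1 : ℤ)⟧).IsGE (r - 1) := TStructure.t.isGE_shift L r 1 (r - 1) (by omega)
    exact prop_of_isZero hX
      (isZero_HD_RSheafHom ((mappingCocone g)⟦(1 : ℤ)⟧) (n - 1) hX₃ _ (r - 1) hr' j (by omega))

/-- derived category level approximation -/
theorem prop_HD_of_approxD {E K : CochainComplex X.Modules ℤ} (α : Q.obj E ⟶ Q.obj K) (n : ℤ)
    (hiso : ∀ i, n < i → IsIso ((homologyFunctor X.Modules i).map α))
    (hepi : Epi ((homologyFunctor X.Modules n).map α))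
    (hE : 𝒞.Pres E) (L : DCoh.D X) (hL : 𝒞.IsPD L) (r : ℤ) (hr : L.IsGE r) (j : ℤ)
    (hj : j < r - n) :
    𝒞.P X (DCoh.HD ((DCoh.RSheafHom K).obj L) j) := by
  obtain ⟨K', g, s, hs, fac⟩ := DerivedCategory.left_fac α
  haveI := hs
  have hg : Q.map g = α ≫ Q.map s := by
    rw [fac, Category.assoc, IsIso.inv_hom_id, Category.comp_id]
  have h1 : ∀ i, n < i → IsIso ((homologyFunctor X.Modules i).map (Q.map g)) := by
    intro i hi
    rw [hg, Functor.map_comp]
    haveI := hiso i hi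
    infer_instance
  have h2 : Epi ((homologyFunctor X.Modules n).map (Q.map g)) := by
    rw [hg, Functor.map_comp]
    haveI := hepi
    exact epi_comp _ _
  have h3 := prop_HD_of_approx hX g n h1 h2 hE L hL r hr j hj
  obtain ⟨ψ⟩ := nonempty_RSheafHom_iso_of_iso (asIso (Q.map s))
  exact prop_of_iso hX ((homologyFunctor _ j).mapIso (ψ.app L).symm) h3

/-- **cohomology sheaves of `RHom(K, L)` for `n`-pseudo-coherent `K`** -/
theorem prop_HD_RSheafHom_of_isPseudoCoherentD (K : CochainComplex X.Modules ℤ) (n : ℤ)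
    (hK : DCoh.IsPseudoCoherentD n (DCoh.toD X K)) (L : DCoh.D X) (hL : 𝒞.IsPD L) (r : ℤ)
    (hr : L.IsGE r) (j : ℤ) (hj : j < r - n) :
    𝒞.P X (DCoh.HD ((DCoh.RSheafHom K).obj L) j) := by
  apply prop_HD_RSheafHom_of_locally hX
  intro x
  obtain ⟨V, hxV, h⟩ := hK x
  obtain ⟨E, α, hE, hiso, hepi⟩ := h K ⟨Iso.refl _⟩
  refine ⟨V, hxV, ?_⟩
  exact prop_HD_of_approxD (𝒞.S_open V hX) α n hiso hepi
    (pres_of_isStrictlyPerfect (𝒞.S_open V hX) E hE) _ (isPD_restrictD hX hL V) r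
    (isGE_restrictD V L r hr) j hj

end

end LocClass

end Groth.Agent.Lib.Helper2.RHom
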