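import Groth.Agent.Lib.Helper2.RHom.PerfQC
import Groth.Agent.Lib.Helper2.RHom.Amp

/-!
# `RHom(K, L)` for pseudo-coherent `K` and bounded below `L ∈ D_QCoh` (helper2)
-/

set_option autoImplicit false
universe w v' u' u
open CategoryTheory CategoryTheory.Limits AlgebraicGeometry HomologicalComplex

namespace Groth.Agent.Lib.Helper2.RHom

open Groth.Agent.Lib.Helper2.Stk Groth.Agent.Lib.Helper2.Stk.LT Groth.Agent.Lib.Helper2.Tot
  Groth.Agent.Lib.Helper2.LDer DerivedCategory Pretriangulated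
  Groth.Agent.Lib.Helper2.Aff Groth.Agent.Lib.Helper2.TExactIso
  Groth.Agent.Lib.Helper2.Aff.HomVan

section Cocone

open CochainComplex

variable {A : Type u'} [Category.{v'} A] [Abelian A] [HasDerivedCategory.{w} A]

/-- if `g` is an isomorphism on `H^i` for `i > n` and an epimorphism on `H^n`, its cocone
lies in `D^{≤ n}` -/
lemma isLE_Q_mappingCocone {E K : CochainComplex A ℤ} (g : E ⟶ K) (n : ℤ)
    (hiso : ∀ i, n < i → IsIso ((homologyFunctor A i).map (Q.map g)))
    (hepi : Epi ((homologyFunctor A n).map (Q.map g))) :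
    (Q.obj (mappingCocone g)).IsLE n := by
  rw [DerivedCategory.isLE_iff]
  intro i hi
  have hT : Q.mapTriangle.obj (mappingCocone.triangle g) ∈ distTriang (DerivedCategory A) :=
    mappingCocone_triangle_distinguished g
  have h1 : (homologyFunctor A i).map (Q.mapTriangle.obj (mappingCocone.triangle g)).mor₁ = 0 := by
    rw [← HomologySequence.mono_homologyMap_mor₂_iff _ hT i]
    haveI := hiso i hi
    exact inferInstanceAs (Mono ((homologyFunctor A i).map (Q.map g)))
  have h2 : HomologySequence.δ (Q.mapTriangle.obj (mappingCocone.triangle g)) (i - 1) i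
      (by omega) = 0 := by
    rw [← HomologySequence.epi_homologyMap_mor₂_iff _ hT (i - 1) i (by omega)]
    by_cases h : i - 1 = n
    · subst h
      exact hepi
    · haveI := hiso (i - 1) (by omega)
      exact inferInstanceAs (Epi ((DerivedCategory.homologyFunctor A (i - 1)).map (Q.map g)))
  have h3 : Mono ((homologyFunctor A i).map
      (Q.mapTriangle.obj (mappingCocone.triangle g)).mor₁) :=
    (HomologySequence.mono_homologyMap_mor₁_iff _ hT (i - 1) i (by omega)).2 h2
  rw [IsZero.iff_id_eq_zero]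
  have h4 : 𝟙 _ ≫ (DerivedCategory.homologyFunctor A i).map
      (Q.mapTriangle.obj (mappingCocone.triangle g)).mor₁ =
      0 ≫ (DerivedCategory.homologyFunctor A i).map
        (Q.mapTriangle.obj (mappingCocone.triangle g)).mor₁ := by
    rw [h1, comp_zero, comp_zero]
  exact h3.right_cancellation _ _ h4

end Cocone

attribute [local instance] HasDerivedCategory.standard
attribute [local instance] Groth.Agent.Lib.Helper2.Stk.LT.hasLTensorCx
attribute [local instance] Groth.Agent.Lib.Helper2.RHom.hasRSheafHom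

variable {X : Scheme.{u}}

/-- `RHom(K, -)` only depends on the image of `K` in the derived category -/
theorem nonempty_RSheafHom_iso_of_iso {K K' : CochainComplex X.Modules ℤ}
    (e : DCoh.toD X K ≅ DCoh.toD X K') :
    Nonempty (DCoh.RSheafHom K ≅ DCoh.RSheafHom K') := by
  obtain ⟨φ⟩ := nonempty_LTensorCx_iso_of_iso e
  exact ⟨((DCoh.RSheafHomAdj K).ofNatIsoLeft φ).rightAdjointUniq (DCoh.RSheafHomAdj K')⟩

lemma isQCoh_of_isZero {M : X.Modules} (h : IsZero M) : Coh.IsQCoh M :=
  Groth.Agent.Lib.Helper3.QCOpen.isQuasicoherent_of_isZero h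

open CochainComplex in
/-- chain level approximation -/
theorem isQCoh_HD_of_approx {E K : CochainComplex X.Modules ℤ} (g : E ⟶ K) (n : ℤ)
    (hiso : ∀ i, n < i → IsIso ((homologyFunctor X.Modules i).map (Q.map g)))
    (hepi : Epi ((homologyFunctor X.Modules n).map (Q.map g)))
    (hE : PresQC E) (L : DCoh.D X) (hL : DCoh.IsQCohD L) (r : ℤ) (hr : L.IsGE r) (j : ℤ)
    (hj : j < r - n) :
    Coh.IsQCoh (DCoh.HD ((DCoh.RSheafHom K).obj L) j) := by
  have hsplit : ∀ q, Nonempty (((mappingCone.triangleRotateShortComplex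
      (mappingCocone.fst g)).map (eval _ _ q)).Splitting) :=
    fun q => ⟨mappingCone.triangleRotateShortComplexSplitting (mappingCocone.fst g) q⟩
  have hC : (Q.obj (mappingCocone g)).IsLE n := isLE_Q_mappingCocone g n hiso hepi
  have hX₃ : (DCoh.toD X ((mappingCocone g)⟦(1 : ℤ)⟧)).IsLE (n - 1) := by
    have e : Q.obj ((mappingCocone g)⟦(1 : ℤ)⟧) ≅ (Q.obj (mappingCocone g))⟦(1 : ℤ)⟧ :=
      ((Q (C := X.Modules)).commShiftIso (1 : ℤ)).app _
    haveI : ((Q.obj (mappingCocone g))⟦(1 : ℤ)⟧).IsLE (n - 1) :=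
      TStructure.t.isLE_shift _ n 1 (n - 1) (by omega)
    exact TStructure.t.isLE_of_iso e.symm _
  have hmid : Nonempty (DCoh.toD X (mappingCone (mappingCocone.fst g)) ≅ DCoh.toD X K) := by
    have hT₁ := mappingCone_triangle_distinguished (mappingCocone.fst g)
    have hT₂ := mappingCocone_triangle_distinguished g
    obtain ⟨e', _, _⟩ := exists_iso_of_arrow_iso _ _ hT₁ hT₂ (Iso.refl _)
    exact ⟨Triangle.π₃.mapIso e'⟩
  obtain ⟨emid⟩ := hmid
  obtain ⟨ψ⟩ := nonempty_RSheafHom_iso_of_iso emid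
  refine isQCoh_of_iso ((homologyFunctor _ j).mapIso (ψ.app L)) ?_
  refine prop_HD_of_ses (mappingCone.triangleRotateShortComplex (mappingCocone.fst g)) hsplit
    (fun M : X.Modules => Coh.IsQCoh M) L j ?_ ?_ ?_ ?_
  · exact hE _ (isQCohD_shift L hL (-1)) j
  · exact isQCoh_of_isZero
      (isZero_HD_RSheafHom ((mappingCocone g)⟦(1 : ℤ)⟧) (n - 1) hX₃ L r hr j (by omega))
  · exact hE L hL j
  · haveI := hr
    have hr' : (L⟦(1 : ℤ)⟧).IsGE (r - 1) := TStructure.t.isGE_shift L r 1 (r - 1) (by omega)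
    exact isQCoh_of_isZero
      (isZero_HD_RSheafHom ((mappingCocone g)⟦(1 : ℤ)⟧) (n - 1) hX₃ _ (r - 1) hr' j (by omega))

/-- derived category level approximation -/
theorem isQCoh_HD_of_approxD {E K : CochainComplex X.Modules ℤ} (α : Q.obj E ⟶ Q.obj K) (n : ℤ)
    (hiso : ∀ i, n < i → IsIso ((homologyFunctor X.Modules i).map α))
    (hepi : Epi ((homologyFunctor X.Modules n).map α))
    (hE : PresQC E) (L : DCoh.D X) (hL : DCoh.IsQCohD L) (r : ℤ) (hr : L.IsGE r) (j : ℤ)
    (hj : j < r - n) :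
    Coh.IsQCoh (DCoh.HD ((DCoh.RSheafHom K).obj L) j) := by
  obtain ⟨K', g, s, hs, fac⟩ := DerivedCategory.left_fac α
  haveI := hs
  have hg : Q.map g = α ≫ Q.map s := by
    rw [fac, Category.assoc, IsIso.inv_hom_id, Category.comp_id]
  have h1 : ∀ i, n < i → IsIso ((homologyFunctor X.Modules i).map (Q.map g)) := by
    intro i hi
    rw [hg, Functor.map_comp]
    haveI := hiso i hi
    infer_instance
  have h2 : Epi ((homologyFunctor X.Modules n).map (Q.map g)) := by
    rw [hg, Functor.map_comp]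
    haveI := hepi
    exact epi_comp _ _
  have h3 := isQCoh_HD_of_approx g n h1 h2 hE L hL r hr j hj
  obtain ⟨ψ⟩ := nonempty_RSheafHom_iso_of_iso (asIso (Q.map s))
  exact isQCoh_of_iso ((homologyFunctor _ j).mapIso (ψ.app L).symm) h3

lemma isGE_restrictD (V : X.Opens) (L : DCoh.D X) (r : ℤ) (hr : L.IsGE r) :
    ((DCoh.restrictD V.ι).obj L).IsGE r := by
  rw [DerivedCategory.isGE_iff]
  intro i hi
  obtain ⟨e⟩ := Groth.Agent.Lib.Helper13.OpenEquivSupp.nonempty_HD_restrictD_iso V.ι L i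
  haveI := hr
  exact IsZero.of_iso ((Scheme.Modules.restrictFunctor V.ι).map_isZero
    (DerivedCategory.isZero_of_isGE L r i hi)) e

/-- **cohomology sheaves of `RHom(K, L)` for `n`-pseudo-coherent `K`** -/
theorem isQCoh_HD_RSheafHom_of_isPseudoCoherentD (K : CochainComplex X.Modules ℤ) (n : ℤ)
    (hK : DCoh.IsPseudoCoherentD n (DCoh.toD X K)) (L : DCoh.D X) (hL : DCoh.IsQCohD L) (r : ℤ)
    (hr : L.IsGE r) (j : ℤ) (hj : j < r - n) :
    Coh.IsQCoh (DCoh.HD ((DCoh.RSheafHom K).obj L) j) := by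
  apply Groth.Agent.Lib.Helper3.QCOpen.isQuasicoherent_of_open_cover
  intro x
  obtain ⟨V, hxV, h⟩ := hK x
  obtain ⟨E, α, hE, hiso, hepi⟩ := h K ⟨Iso.refl _⟩
  refine ⟨V, hxV, ?_⟩
  obtain ⟨e⟩ := Groth.Agent.Lib.Helper13.OpenEquivSupp.nonempty_HD_restrictD_iso V.ι
    ((DCoh.RSheafHom K).obj L) j
  have e' := (restrictRSheafHomIso V K).app L
  have hLV : DCoh.IsQCohD ((DCoh.restrictD V.ι).obj L) :=
    Groth.Agent.Lib.Helper13.OpenEquivSupp.isQCohD_restrictD V.ι L hL
  have h3 := isQCoh_HD_of_approxD α n hiso hepi (presQC_of_isStrictlyPerfect E hE) _ hLV r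
    (isGE_restrictD V L r hr) j hj
  exact isQCoh_of_iso ((homologyFunctor _ j).mapIso e'.symm ≪≫ e) h3

end Groth.Agent.Lib.Helper2.RHom
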