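import Groth.Agent.Lib.Helper2.RHom.TBase
import Groth.Agent.Lib.Helper2.Aff.SigmaTrunc
import Groth.Agent.Lib.Helper2.Aff.QcqsBase
import Groth.Agent.Lib.Helper13.OpenEquivSupp

/-!
# `RHom(K, -)` preserves `D_QCoh` for perfect `K` (helper2)
-/

set_option autoImplicit false
universe u
open CategoryTheory CategoryTheory.Limits AlgebraicGeometry HomologicalComplex

namespace Groth.Agent.Lib.Helper2.RHom

open Groth.Agent.Lib.Helper2.Stk Groth.Agent.Lib.Helper2.Stk.LT Groth.Agent.Lib.Helper2.Tot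
  Groth.Agent.Lib.Helper2.LDer DerivedCategory Pretriangulated
  Groth.Agent.Lib.Helper2.Aff Groth.Agent.Lib.Helper2.TExactIso
  Groth.Agent.Lib.Helper2.Aff.HomVan Groth.Agent.Lib.Helper2.Aff.Sigma

attribute [local instance] HasDerivedCategory.standard
attribute [local instance] Groth.Agent.Lib.Helper2.Stk.LT.hasLTensorCx
attribute [local instance] Groth.Agent.Lib.Helper2.RHom.hasRSheafHom

/-- the property of a module `M`: `RHom(M[-a], -)` preserves `D_QCoh` for all `a` -/
def PQ (X : Scheme.{u}) : ObjectProperty X.Modules := fun M =>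
  ∀ a : ℤ, PresQC ((single X.Modules (ComplexShape.up ℤ) a).obj M)

variable {X : Scheme.{u}}

lemma presQC_of_cxIso {K K' : CochainComplex X.Modules ℤ} (e : K ≅ K') (h : PresQC K) :
    PresQC K' :=
  presQC_of_iso (DerivedCategory.Q.mapIso e) h

instance : (PQ X).IsClosedUnderIsomorphisms where
  of_iso e h a := presQC_of_cxIso ((single X.Modules (ComplexShape.up ℤ) a).mapIso e) (h a)

lemma pq_of_isZero (M : X.Modules) (h : IsZero M) : PQ X M := fun a =>
  presQC_of_isZero ((single X.Modules (ComplexShape.up ℤ) a).map_isZero h)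

open ZeroObject in
instance : (PQ X).ContainsZero where
  exists_zero := ⟨0, isZero_zero _, pq_of_isZero _ (isZero_zero _)⟩

lemma pq_unit : PQ X (Coh.structureModule X) := by
  intro a
  have e := ((CochainComplex.singleFunctors X.Modules).shiftIso (-a) a 0 (by omega)).app
    (Coh.structureModule X)
  exact presQC_of_cxIso e (presQC_shift presQC_unit (-a))

lemma pq_biprod (M₁ M₂ : X.Modules) (h₁ : PQ X M₁) (h₂ : PQ X M₂) : PQ X (M₁ ⊞ M₂) := by
  intro a
  let S₀ : ShortComplex X.Modules :=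
    ShortComplex.mk (biprod.inl : M₁ ⟶ M₁ ⊞ M₂) (biprod.snd : M₁ ⊞ M₂ ⟶ M₂) (by simp)
  let σ : S₀.Splitting := ShortComplex.Splitting.ofHasBinaryBiproduct M₁ M₂
  have h := presQC_of_ses (S₀.map (single X.Modules (ComplexShape.up ℤ) a))
    (fun q => ⟨(σ.map (single X.Modules (ComplexShape.up ℤ) a)).map
      (eval X.Modules (ComplexShape.up ℤ) q)⟩) (h₁ a) (h₂ a)
  exact h

instance : (PQ X).IsClosedUnderBinaryCoproducts where
  colimitsOfShape_le := by
    rintro M ⟨h⟩
    let M₁ := h.diag.obj ⟨WalkingPair.left⟩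
    let M₂ := h.diag.obj ⟨WalkingPair.right⟩
    have hc : IsColimit ((Cocone.precompose (diagramIsoPair h.diag).hom).obj
        (BinaryBiproduct.bicone M₁ M₂).toCocone) :=
      (IsColimit.precomposeHomEquiv (diagramIsoPair h.diag) _).symm
        (BinaryBiproduct.isColimit M₁ M₂)
    have e : M₁ ⊞ M₂ ≅ M := IsColimit.coconePointUniqueUpToIso hc h.isColimit
    exact (PQ X).prop_of_iso e (pq_biprod M₁ M₂ (h.prop_diag_obj _) (h.prop_diag_obj _))

lemma pq_free (n : ℕ) : PQ X (FlatMod.freeMod X n) := by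
  haveI : (PQ X).IsClosedUnderFiniteCoproducts := ObjectProperty.IsClosedUnderFiniteCoproducts.mk'
  exact (PQ X).prop_coproduct (fun _ => pq_unit)

/-- `PresQC` is local -/
theorem presQC_of_locally {K : CochainComplex X.Modules ℤ}
    (h : ∀ x : X, ∃ U : X.Opens, x ∈ U ∧ PresQC ((resC U).obj K)) : PresQC K := by
  intro L hL
  apply Groth.Agent.Lib.Helper2.Aff.Qcqs.isQCohD_of_open_cover
  intro x
  obtain ⟨U, hxU, hU⟩ := h x
  refine ⟨U, hxU, ?_⟩
  have e := (restrictRSheafHomIso U K).app L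
  have h1 := hU _ (Groth.Agent.Lib.Helper13.OpenEquivSupp.isQCohD_restrictD U.ι L hL)
  intro i
  exact isQCoh_of_iso ((DerivedCategory.homologyFunctor _ i).mapIso e.symm) (h1 i)

lemma pq_of_isFinLocFree (M : X.Modules) (hM : FlatMod.IsFinLocFree M) : PQ X M := by
  intro a
  apply presQC_of_locally
  intro x
  obtain ⟨U, n, hxU, ⟨e⟩⟩ := hM x
  refine ⟨U, hxU, ?_⟩
  have e1 : (resC U).obj ((single X.Modules (ComplexShape.up ℤ) a).obj M) ≅
      (single _ (ComplexShape.up ℤ) a).obj ((jst U).obj M) :=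
    (HomologicalComplex.singleMapHomologicalComplex (jst U) (ComplexShape.up ℤ) a).app M
  have e2 : (single _ (ComplexShape.up ℤ) a).obj ((jst U).obj M) ≅
      (single _ (ComplexShape.up ℤ) a).obj (FlatMod.freeMod (↑U) n) :=
    (single _ (ComplexShape.up ℤ) a).mapIso e
  exact presQC_of_cxIso (e1 ≪≫ e2).symm (pq_free n a)

section Bounded

lemma isZero_of_X (E : CochainComplex X.Modules ℤ) (h : ∀ i, IsZero (E.X i)) : IsZero E := by
  rw [IsZero.iff_id_eq_zero]
  refine HomologicalComplex.hom_ext _ _ (fun i => ?_)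
  exact (h i).eq_of_src _ _

variable (E : CochainComplex X.Modules ℤ) (m : ℤ) (hlo : ∀ i, i < m → IsZero (E.X i))

/-- the projection to the lowest term -/
noncomputable def toLowest : E ⟶ (single X.Modules (ComplexShape.up ℤ) m).obj (E.X m) :=
  mkHomToSingle (𝟙 _) (fun i (hi : i + 1 = m) => (hlo i (by omega)).eq_of_src _ _)

lemma sigmaGEι_toLowest : sigmaGEι E (m + 1) ≫ toLowest E m hlo = 0 := by
  refine HomologicalComplex.hom_ext _ _ (fun q => ?_)
  by_cases hq : q = m
  · subst hq
    have : (sigmaGEι E (q + 1)).f q = 0 := sgι_eq_zero (by omega)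
    rw [HomologicalComplex.comp_f, this, zero_comp]
    rfl
  · exact (isZero_single_obj_X (ComplexShape.up ℤ) m (E.X m) q hq).eq_of_tgt _ _

/-- the brutal truncation sequence `0 → σ_{≥ m+1} E → E → E^m[-m] → 0` -/
noncomputable def truncSC : ShortComplex (CochainComplex X.Modules ℤ) :=
  ShortComplex.mk (sigmaGEι E (m + 1)) (toLowest E m hlo) (sigmaGEι_toLowest E m hlo)

lemma truncSC_split (q : ℤ) :
    Nonempty ((truncSC E m hlo).map (eval X.Modules (ComplexShape.up ℤ) q)).Splitting := by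
  by_cases hq : m + 1 ≤ q
  · refine ⟨ShortComplex.Splitting.ofIsIsoOfIsZero _ ?_ ?_⟩
    · exact isIso_sgι hq
    · exact isZero_single_obj_X (ComplexShape.up ℤ) m (E.X m) q (by omega)
  · refine ⟨ShortComplex.Splitting.ofIsZeroOfIsIso _ ?_ ?_⟩
    · exact isZero_sgX hq
    · by_cases hq' : q = m
      · subst hq'
        change IsIso ((toLowest E q hlo).f q)
        unfold toLowest
        rw [mkHomToSingle_f]
        infer_instance
      · have h1 : IsZero (E.X q) := hlo q (by omega)
        have h2 := isZero_single_obj_X (ComplexShape.up ℤ) m (E.X m) q hq'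
        exact ⟨⟨0, h1.eq_of_src _ _, h2.eq_of_src _ _⟩⟩

end Bounded

theorem presQC_of_bounded : ∀ (n : ℕ) (E : CochainComplex X.Modules ℤ) (m : ℤ),
    (∀ i, i < m → IsZero (E.X i)) → (∀ i, m + n ≤ i → IsZero (E.X i)) →
    (∀ i, PQ X (E.X i)) → PresQC E := by
  intro n
  induction n with
  | zero =>
    intro E m hlo hhi _
    apply presQC_of_isZero
    apply isZero_of_X
    intro i
    by_cases hi : i < m
    · exact hlo i hi
    · exact hhi i (by simp; omega)
  | succ n ih =>
    intro E m hlo hhi hP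
    refine presQC_of_ses (truncSC E m hlo) (truncSC_split E m hlo) ?_ (hP m m)
    refine ih (sigmaGE E (m + 1)) (m + 1) ?_ ?_ ?_
    · intro i hi
      exact isZero_sgX (by omega)
    · intro i hi
      have hi' : m + 1 ≤ i := by omega
      exact IsZero.of_iso (hhi i (by push_cast; omega))
        (@asIso _ _ _ _ (sgι E (m + 1) i) (isIso_sgι hi'))
    · intro i
      exact sigmaGE_X_prop' E (m + 1) (fun M => PQ X M) (fun e h => (PQ X).prop_of_iso e h)
        pq_of_isZero hP i

theorem presQC_of_isStrictlyPerfect (E : CochainComplex X.Modules ℤ)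
    (hE : DCoh.IsStrictlyPerfect E) : PresQC E := by
  obtain ⟨⟨a, b, hab⟩, hflf⟩ := hE
  refine presQC_of_bounded (b + 1 - a).toNat E a (fun i hi => hab i (Or.inl hi)) ?_
    (fun i => pq_of_isFinLocFree _ (hflf i))
  intro i hi
  have := Int.self_le_toNat (b + 1 - a)
  exact hab i (Or.inr (by omega))

/-- **`RHom(K, -)` preserves `D_QCoh` when `K` is perfect** -/
theorem presQC_of_isPerfect (K : CochainComplex X.Modules ℤ)
    (hK : DCoh.IsPerfect (DCoh.toD X K)) : PresQC K := by
  apply presQC_of_locally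
  intro x
  obtain ⟨V, hxV, h⟩ := hK x
  obtain ⟨E, hE, ⟨e⟩⟩ := h K ⟨Iso.refl _⟩
  exact ⟨V, hxV, presQC_of_iso e.symm (presQC_of_isStrictlyPerfect E hE)⟩

end Groth.Agent.Lib.Helper2.RHom
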