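import Groth.Agent.Lib.Helper2.RHom.TensorCoh
import Groth.Agent.Lib.Helper2.Flat.PullExact
import Groth.Agent.Lib.Helper1.ConsModLocus
import Groth.Agent.Lib.Helper13.PCohNoeth
import Groth.Agent.S0910
import Groth.Agent.S1054

/-!
# `Lf^*` and `D^-_Coh` on locally Noetherian schemes; local hypertor sheaves are coherent (helper2)
-/

set_option autoImplicit false
universe u
open CategoryTheory CategoryTheory.Limits AlgebraicGeometry HomologicalComplex

namespace Groth.Agent.Lib.Helper2.RHom

open Groth.Agent.Lib.Helper2.Stk Groth.Agent.Lib.Helper2.Stk.LT Groth.Agent.Lib.Helper2.Tot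
  Groth.Agent.Lib.Helper2.LDer DerivedCategory Pretriangulated
  Groth.Agent.Lib.Helper2.Aff Groth.Agent.Lib.Helper2.TExactIso
  Groth.Agent.Lib.Helper2.Mon

attribute [local instance] HasDerivedCategory.standard

local notation "cc" => ComplexShape.up ℤ

/-- a coherent module in degree `0` -/
lemma isCohD_inD {Z : Scheme.{u}} [IsLocallyNoetherian Z] (G : Z.Modules) (hG : Coh.IsCoh G) :
    DCoh.IsCohD (DCoh.inD Z G) := by
  have hZ : cohClass.S Z := ‹IsLocallyNoetherian Z›
  intro i
  by_cases hi : i = 0
  · subst hi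
    exact LocClass.prop_of_iso (𝒞 := cohClass) hZ
      ((DerivedCategory.singleFunctorCompHomologyFunctorIso Z.Modules 0).app G).symm hG
  · haveI : ((DerivedCategory.singleFunctor Z.Modules 0).obj G).IsLE 0 := inferInstance
    haveI : ((DerivedCategory.singleFunctor Z.Modules 0).obj G).IsGE 0 := inferInstance
    apply LocClass.prop_of_isZero (𝒞 := cohClass) hZ
    rcases lt_or_gt_of_ne hi with h | h
    · exact DerivedCategory.isZero_of_isGE
        ((DerivedCategory.singleFunctor Z.Modules 0).obj G) 0 i h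
    · exact DerivedCategory.isZero_of_isLE
        ((DerivedCategory.singleFunctor Z.Modules 0).obj G) 0 i h

/-- `Lp^*` maps `D^-_Coh` to `D^-_Coh` -/
theorem isCohD_Lpull {X Z : Scheme.{u}} [IsLocallyNoetherian X] [IsLocallyNoetherian Z]
    (p : Z ⟶ X) [DCoh.HasLpull p] (K : DCoh.D X) (b : ℤ) (hKb : K.IsLE b)
    (hK : DCoh.IsCohD K) :
    DCoh.IsCohD ((DCoh.Lpull p).obj K) ∧ ((DCoh.Lpull p).obj K).IsLE b := by
  have hKq : DCoh.IsQCohD K := fun i => (hK i).1
  have hpc : ∀ m, DCoh.IsPseudoCoherentD m K := fun m =>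
    Groth.Agent.Lib.Helper13.PCohNoeth.isPC_of_coherent_homology m (b - m + 1).toNat K b hKb
      (by have := Int.self_le_toNat (b - m + 1); omega) (fun i _ => hK i)
  have hLq := Groth.Agent.S1054.result p K hKq
  have hLpc := fun m => Groth.Agent.S0910.result p m K (hpc m)
  refine ⟨fun i => Groth.Agent.Lib.Helper13.PCohNoeth.isCoh_homology_of_isPC i _ hLq (hLpc i) i
    le_rfl, ?_⟩
  rw [DerivedCategory.isLE_iff]
  intro i hi
  exact Stk.isZero_homology_Lpull p K (b + 1)
    (fun k hk => DerivedCategory.isZero_of_isLE K b k (by omega)) i (by omega)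

/-- a complex with vanishing terms above `b` is in `D^{≤ b}` -/
lemma isLE_toD_of_isZero_X {Z : Scheme.{u}} (P : CochainComplex Z.Modules ℤ) (b : ℤ)
    (h : ∀ i : ℤ, b < i → IsZero (P.X i)) : (DCoh.toD Z P).IsLE b := by
  rw [DerivedCategory.isLE_iff]
  intro i hi
  have h1 : P.ExactAt i := ShortComplex.exact_of_isZero_X₂ _ (h i hi)
  exact IsZero.of_iso h1.isZero_homology ((DerivedCategory.homologyFunctorFactors _ i).app P)

section Flat

variable {Z Y : Scheme.{u}} (p : Z ⟶ Y) [Flat p]

/-- flat pullback of a complex with coherent cohomology has coherent cohomology -/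
theorem isCohD_pullCx_of_flat [IsLocallyNoetherian Z] (Q : CochainComplex Y.Modules ℤ)
    (hQ : DCoh.IsCohD (DCoh.toD Y Q)) :
    DCoh.IsCohD (DCoh.toD Z (((Scheme.Modules.pullback p).mapHomologicalComplex cc).obj Q)) := by
  have hZ : cohClass.S Z := ‹IsLocallyNoetherian Z›
  haveI : (Scheme.Modules.pullback p).Additive :=
    (Scheme.Modules.pullbackPushforwardAdjunction p).left_adjoint_additive
  haveI : PreservesFiniteColimits (Scheme.Modules.pullback p) := by
    have : PreservesColimitsOfSize.{0, 0} (Scheme.Modules.pullback p) :=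
      (Scheme.Modules.pullbackPushforwardAdjunction p).leftAdjoint_preservesColimits
    exact PreservesColimitsOfSize.preservesFiniteColimits _
  intro i
  have h1 : Coh.IsCoh ((Scheme.Modules.pullback p).obj (Q.homology i)) := by
    apply Groth.Agent.Lib.Helper1.ConsModLocus.isCoh_pullback
    have hq := hQ i
    have e : DCoh.HD (DCoh.toD Y Q) i ≅ Q.homology i :=
      (DerivedCategory.homologyFunctorFactors _ i).app Q
    haveI := hq.2
    exact ⟨(SheafOfModules.isQuasicoherent Y.ringCatSheaf).prop_of_iso e hq.1,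
      Groth.Agent.Lib.Helper3.QCProps.isFiniteType_of_iso e⟩
  exact LocClass.prop_of_iso (𝒞 := cohClass) hZ
    ((DerivedCategory.homologyFunctorFactors _ i).app _ ≪≫
      mapHomologicalComplexHomologyIso (Scheme.Modules.pullback p) Q i).symm h1

end Flat

end Groth.Agent.Lib.Helper2.RHom
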