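import Groth.Agent.Lib.Helper2.RHom.TensorCoh
import Groth.Agent.Lib.Helper2.RHom.TensorCohPull
import Groth.Agent.Lib.Helper13.ClImmPC
import Groth.Agent.Lib.Helper2.RHom.FlatOver

/-!
# `K ⊗^L M` for `K` perfect: pseudo-coherence and relative tor amplitude (helper2)
-/

set_option autoImplicit false
universe u
open CategoryTheory CategoryTheory.Limits AlgebraicGeometry HomologicalComplex

namespace Groth.Agent.Lib.Helper2.RHom

open Groth.Agent.Lib.Helper2.Stk Groth.Agent.Lib.Helper2.Stk.LT Groth.Agent.Lib.Helper2.Tot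
  Groth.Agent.Lib.Helper2.LDer DerivedCategory Pretriangulated
  Groth.Agent.Lib.Helper2.Aff Groth.Agent.Lib.Helper2.TExactIso
  Groth.Agent.Lib.Helper2.Mon
open Groth.Agent.Lib.Helper13 Groth.Agent.Lib.Helper13.GoodMap Groth.Agent.Lib.Helper13.PCohTri
  Groth.Agent.Lib.Helper13.PerfTri

attribute [local instance] HasDerivedCategory.standard
attribute [local instance] Groth.Agent.Lib.Helper2.Stk.LT.hasLTensorCx

local notation "cc" => ComplexShape.up ℤ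

variable {X : Scheme.{u}}

/-- local data of a perfect object with explicit bounds, on any smaller open -/
lemma exists_strictlyPerfect_restrict (K : DCoh.D X) (hK : DCoh.IsPerfect K) (x : X) :
    ∃ (V₁ : X.Opens) (a₁ b₁ : ℤ), x ∈ V₁ ∧ ∀ (V : X.Opens), V ≤ V₁ →
      ∃ E : CochainComplex (V : Scheme.{u}).Modules ℤ, DCoh.IsStrictlyPerfect E ∧
        DCoh.VanishesOutside E a₁ b₁ ∧
        Nonempty ((DCoh.restrictD V.ι).obj K ≅ DerivedCategory.Q.obj E) := by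
  obtain ⟨V₁, hx₁, E₁, hE₁, ⟨e₁⟩⟩ := (isPerfect_iff K).1 hK x
  obtain ⟨a₁, b₁, hv₁⟩ := hE₁.1
  refine ⟨V₁, a₁, b₁, hx₁, fun V hV => ?_⟩
  obtain ⟨c⟩ := nonempty_resD_comp (X.homOfLE hV) V₁.ι V.ι (X.homOfLE_ι hV).symm K
  refine ⟨(resCx (X.homOfLE hV)).obj E₁, PerfLocal.isStrictlyPerfect_restrict _ E₁ hE₁, ?_, ?_⟩
  · intro i hi
    exact (Scheme.Modules.restrictFunctor (X.homOfLE hV)).map_isZero (hv₁ i hi)
  · exact ⟨c.symm ≪≫ (DCoh.restrictD (X.homOfLE hV)).mapIso e₁ ≪≫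
      (Scheme.Modules.restrictFunctor (X.homOfLE hV)).mapDerivedCategoryFactors.app E₁⟩

/-- **`K ⊗^L M` is pseudo-coherent for `K` perfect and `M` pseudo-coherent** -/
theorem isPC_LTensorCx_of_isPerfect (M : CochainComplex X.Modules ℤ) [DCoh.HasLTensorCx M]
    (hM : ∀ m : ℤ, DCoh.IsPseudoCoherentD m (DCoh.toD X M)) (K : DCoh.D X)
    (hK : DCoh.IsPerfect K) (m : ℤ) :
    DCoh.IsPseudoCoherentD m ((DCoh.LTensorCx M).obj K) := by
  rw [isPC_iff]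
  intro x
  obtain ⟨V₁, a₁, b₁, hx₁, h₁⟩ := exists_strictlyPerfect_restrict K hK x
  obtain ⟨V₂, hx₂, h₂⟩ := (isPC_iff (m - b₁) _).1 (hM (m - b₁)) x
  let V : X.Opens := V₁ ⊓ V₂
  have hV₁ : V ≤ V₁ := inf_le_left
  have hV₂ : V ≤ V₂ := inf_le_right
  obtain ⟨E₁, hE₁, hv₁, ⟨e₁⟩⟩ := h₁ V hV₁
  obtain ⟨E₂, α, hE₂, hα⟩ := LPC.comp (X.homOfLE hV₂) V₂.ι V.ι (X.homOfLE_ι hV₂).symm h₂
  let rM := (resC V).obj M
  have hle : (DCoh.toD _ E₁).IsLE b₁ :=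
    isLE_toD_of_isZero_X E₁ b₁ (fun i hi => hv₁ i (Or.inr hi))
  let eM : (DCoh.restrictD V.ι).obj (DCoh.toD X M) ≅ DCoh.toD _ rM :=
    (Scheme.Modules.restrictFunctor V.ι).mapDerivedCategoryFactors.app M
  have hα' : Good (m - b₁) (α ≫ eM.hom) := hα.comp_iso eM.hom
  have h1 := good_LTensorCx_map (K := E₁) b₁ hle (α ≫ eM.hom) (m - b₁) hα'
  have hgE₁ : DC.Good E₁ := (good_iff_kflat E₁).2 (kflat_of_isStrictlyPerfect E₁ hE₁)
  have hgE₂ : DC.Good E₂ := (good_iff_kflat E₂).2 (kflat_of_isStrictlyPerfect E₂ hE₂)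
  obtain ⟨es⟩ := nonempty_LTensorCx_symm rM E₁ hgE₁
  obtain ⟨er⟩ := nonempty_restrict_LTensorCx_iso V M K
  let e0 : (DCoh.LTensorCx E₁).obj (DCoh.toD _ E₂) ≅ DCoh.toD _ ((DCoh.tensorCx.obj E₂).obj E₁) :=
    LT.LTensorCxIso E₁ E₂ hgE₂
  let e9 : (DCoh.LTensorCx E₁).obj (DCoh.toD _ rM) ≅
      (DCoh.restrictD V.ι).obj ((DCoh.LTensorCx M).obj K) :=
    es.symm ≪≫ (DCoh.LTensorCx rM).mapIso e₁.symm ≪≫ er.symm
  have hm : m - b₁ + b₁ = m := by omega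
  rw [hm] at h1
  exact ⟨V, ⟨hx₁, hx₂⟩, (DCoh.tensorCx.obj E₂).obj E₁,
    e0.inv ≫ (DCoh.LTensorCx E₁).map (α ≫ eM.hom) ≫ e9.hom,
    isStrictlyPerfect_tensorCx E₂ E₁ hE₂ hE₁, Good.iso_comp _ (h1.comp_iso e9.hom)⟩

/-- the tensor product of complexes vanishing outside `[a₁, b₁]` and `[a₂, b₂]` vanishes outside
`[a₁ + a₂, b₁ + b₂]` -/
lemma vanishesOutside_tensorCx (E₁ E₂ : CochainComplex X.Modules ℤ) {a₁ b₁ a₂ b₂ : ℤ}
    (hv₁ : DCoh.VanishesOutside E₁ a₁ b₁) (hv₂ : DCoh.VanishesOutside E₂ a₂ b₂) :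
    DCoh.VanishesOutside ((DCoh.tensorCx.obj E₁).obj E₂) (a₁ + a₂) (b₁ + b₂) := by
  have hz : ∀ p q : ℤ, (p < a₁ ∨ b₁ < p) ∨ (q < a₂ ∨ b₂ < q) →
      IsZero (((DCoh.tensorBi (X := X)).obj (E₁.X p)).obj (E₂.X q)) := by
    rintro p q (h | h)
    · have h0 : IsZero ((DCoh.tensorBi (X := X)).obj (E₁.X p)) :=
        (DCoh.tensorBi (X := X)).map_isZero (hv₁ p h)
      exact (Functor.isZero_iff _).1 h0 _
    · exact ((DCoh.tensorBi (X := X)).obj (E₁.X p)).map_isZero (hv₂ q h)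
  intro n hn
  rw [IsZero.iff_id_eq_zero]
  apply mapBifunctor.hom_ext
  intro p q hpq
  have hpq' : p + q = n := hpq
  exact (hz p q (by omega)).eq_of_src _ _

open Groth.Agent.Lib.Helper2.FlatOver in
/-- the terms of `E₁ ⊗ E₂` are flat over `S` when those of `E₁` are finite locally free and those
of `E₂` are flat over `S` -/
lemma isFlatOver_tensorCx_X {S : Scheme.{u}} (g : X ⟶ S) (E₁ E₂ : CochainComplex X.Modules ℤ)
    (h₁ : ∀ i, FlatMod.IsFinLocFree (E₁.X i)) (h₂ : ∀ i, FlatMod.IsFlatOver g (E₂.X i)) (n : ℤ) :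
    FlatMod.IsFlatOver g (((DCoh.tensorCx.obj E₁).obj E₂).X n) := by
  let fn : (ComplexShape.π cc cc cc) ⁻¹' {n} → X.Modules :=
    fun a => ((DCoh.tensorBi (X := X)).obj (E₁.X a.1.1)).obj (E₂.X a.1.2)
  have hc := GradedObject.isColimitCofanMapObj
    (((((DCoh.tensorBi (X := X)).mapBifunctorHomologicalComplex cc cc).obj E₁).obj
      E₂).toGradedObject) (ComplexShape.π cc cc cc) n
  exact isFlatOver_of_isColimit_cofan g fn _ hc
    (fun a => isFlatOver_tensor g _ _ (h₁ _) (h₂ _))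

open Groth.Agent.Lib.Helper2.FlatOver in
/-- **relative tor amplitude of `K ⊗^L M` for `K` perfect** -/
theorem locHasFiniteRelTorDim_LTensorCx {S : Scheme.{u}} (f : X ⟶ S)
    (M : CochainComplex X.Modules ℤ) [DCoh.HasLTensorCx M]
    (hM : DCoh.LocHasFiniteRelTorDim f (DCoh.toD X M)) (K : DCoh.D X) (hK : DCoh.IsPerfect K) :
    DCoh.LocHasFiniteRelTorDim f ((DCoh.LTensorCx M).obj K) := by
  intro x
  obtain ⟨V₁, a₁, b₁, hx₁, h₁⟩ := exists_strictlyPerfect_restrict K hK x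
  obtain ⟨V₂, a, b, hx₂, h₂⟩ := hM x
  obtain ⟨E₂, hv₂, hfl₂, ⟨e₂⟩⟩ := h₂ M ⟨Iso.refl _⟩
  let V : X.Opens := V₁ ⊓ V₂
  have hV₁ : V ≤ V₁ := inf_le_left
  have hV₂ : V ≤ V₂ := inf_le_right
  obtain ⟨E₁, hE₁, hv₁, ⟨e₁⟩⟩ := h₁ V hV₁
  let j' : (V : Scheme.{u}) ⟶ (V₂ : Scheme.{u}) := X.homOfLE hV₂
  let E₂' : CochainComplex (V : Scheme.{u}).Modules ℤ := (resCx j').obj E₂
  have hv₂' : DCoh.VanishesOutside E₂' a b := fun i hi =>
    (Scheme.Modules.restrictFunctor j').map_isZero (hv₂ i hi)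
  have hg : j' ≫ (V₂.ι ≫ f) = V.ι ≫ f := by
    rw [← Category.assoc, Scheme.homOfLE_ι]
  have hfl₂' : ∀ i, FlatMod.IsFlatOver (V.ι ≫ f) (E₂'.X i) := by
    intro i z
    have := (isFlatOverAt_restrict_iff j' (V₂.ι ≫ f) (E₂.X i) z).2 (hfl₂ i _)
    rw [hg] at this
    exact this
  refine ⟨V, a₁ + a, b₁ + b, ⟨hx₁, hx₂⟩, ?_⟩
  rintro F' ⟨eF⟩
  let rM := (resC V).obj M
  have hgE₁ : DC.Good E₁ := (good_iff_kflat E₁).2 (kflat_of_isStrictlyPerfect E₁ hE₁)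
  obtain ⟨er⟩ := nonempty_restrict_LTensorCx_iso V M K
  obtain ⟨c⟩ := nonempty_resD_comp j' V₂.ι V.ι (X.homOfLE_ι hV₂).symm (DCoh.toD X M)
  let eL : DCoh.toD _ rM ≅ DCoh.toD _ E₂' :=
    ((Scheme.Modules.restrictFunctor V.ι).mapDerivedCategoryFactors.app M).symm ≪≫ c.symm ≪≫
      (DCoh.restrictD j').mapIso
        ((Scheme.Modules.restrictFunctor V₂.ι).mapDerivedCategoryFactors.app M ≪≫ e₂.symm) ≪≫
      (Scheme.Modules.restrictFunctor j').mapDerivedCategoryFactors.app E₂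
  obtain ⟨e4⟩ := nonempty_tensor_iso_right hgE₁ eL
  refine ⟨(DCoh.tensorCx.obj E₁).obj E₂', vanishesOutside_tensorCx E₁ E₂' hv₁ hv₂',
    isFlatOver_tensorCx_X (V.ι ≫ f) E₁ E₂' hE₁.2 hfl₂', ?_⟩
  exact ⟨e4.symm ≪≫ (LT.LTensorCxIso rM E₁ hgE₁).symm ≪≫ (DCoh.LTensorCx rM).mapIso e₁.symm ≪≫
    er.symm ≪≫ (DCoh.restrictD V.ι).mapIso eF.symm ≪≫
    (Scheme.Modules.restrictFunctor V.ι).mapDerivedCategoryFactors.app F'⟩

end Groth.Agent.Lib.Helper2.RHom
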