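import Groth.Agent.Lib.Helper2.RHom.Ext
import Groth.Agent.Lib.Helper2.LDer.DCohAmp
import Groth.Agent.Lib.Helper2.LDer.Single
import Groth.Agent.Lib.Helper2.LDer.Unique
import Groth.Agent.Lib.Helper3.QCOpen

/-!
# Basic cases where `RHom(K, -)` preserves `D_QCoh` (helper2)

isomorphism invariance, zero, the structure sheaf, shifts.
-/

set_option autoImplicit false
universe u
open CategoryTheory CategoryTheory.Limits AlgebraicGeometry HomologicalComplex

namespace Groth.Agent.Lib.Helper2.RHom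

open Groth.Agent.Lib.Helper2.Stk Groth.Agent.Lib.Helper2.Stk.LT Groth.Agent.Lib.Helper2.Tot
  Groth.Agent.Lib.Helper2.LDer DerivedCategory Pretriangulated
  Groth.Agent.Lib.Helper2.Aff Groth.Agent.Lib.Helper2.TExactIso
  Groth.Agent.Lib.Helper2.Aff.HomVan

attribute [local instance] HasDerivedCategory.standard
attribute [local instance] Groth.Agent.Lib.Helper2.Stk.LT.hasLTensorCx
attribute [local instance] Groth.Agent.Lib.Helper2.RHom.hasRSheafHom

variable {X : Scheme.{u}}

/-- any right adjoint of `- ⊗^L K` preserving `D_QCoh` witnesses `PresQC K` -/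
lemma presQC_of_adj {K : CochainComplex X.Modules ℤ} (G : DCoh.D X ⥤ DCoh.D X)
    (adj : DCoh.LTensorCx K ⊣ G) (hG : ∀ L, DCoh.IsQCohD L → DCoh.IsQCohD (G.obj L)) :
    PresQC K := by
  intro L hL i
  have φ : G ≅ DCoh.RSheafHom K := adj.rightAdjointUniq (DCoh.RSheafHomAdj K)
  exact isQCoh_of_iso ((DerivedCategory.homologyFunctor _ i).mapIso (φ.app L)) (hG L hL i)

lemma presQC_of_natIso {K K' : CochainComplex X.Modules ℤ}
    (e : DCoh.LTensorCx K ≅ DCoh.LTensorCx K') (h : PresQC K) : PresQC K' :=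
  presQC_of_adj (DCoh.RSheafHom K) ((DCoh.RSheafHomAdj K).ofNatIsoLeft e) h

lemma presQC_of_iso {K K' : CochainComplex X.Modules ℤ} (e : DCoh.toD X K ≅ DCoh.toD X K')
    (h : PresQC K) : PresQC K' := by
  obtain ⟨φ⟩ := nonempty_LTensorCx_iso_of_iso e
  exact presQC_of_natIso φ h

lemma isQCohD_of_isZero (L : DCoh.D X) (h : IsZero L) : DCoh.IsQCohD L := fun i =>
  Groth.Agent.Lib.Helper3.QCOpen.isQuasicoherent_of_isZero
    ((DerivedCategory.homologyFunctor _ i).map_isZero h)

lemma isZero_LTensorCx_obj {K : CochainComplex X.Modules ℤ} (hK : IsZero K) (A : DCoh.D X) :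
    IsZero ((DCoh.LTensorCx K).obj A) := by
  obtain ⟨P, hP, ⟨e⟩⟩ := exists_good_iso A
  refine IsZero.of_iso ?_ ((DCoh.LTensorCx K).mapIso e.symm)
  haveI := isIso_counitT_app K P hP
  refine IsZero.of_iso ?_ (asIso ((counitT K).app P))
  exact (DerivedCategory.Q).map_isZero ((DCoh.tensorCx.obj P).map_isZero hK)

lemma presQC_of_isZero {K : CochainComplex X.Modules ℤ} (hK : IsZero K) : PresQC K := by
  intro L _
  apply isQCohD_of_isZero
  rw [IsZero.iff_id_eq_zero]
  apply ((DCoh.RSheafHomAdj K).homEquiv _ _).symm.injective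
  rw [homEquiv_symm_zero]
  exact (isZero_LTensorCx_obj hK _).eq_of_src _ _

section Unit

local notation "cc" => ComplexShape.up ℤ

/-- termwise tensoring with the structure sheaf is the identity, naturally -/
noncomputable def tensorUnitNatIso :
    ((DCoh.tensorBi (X := X)).flip.obj (ModSite.unit X.sheaf)).mapHomologicalComplex
      (ComplexShape.up ℤ) ≅ 𝟭 (CochainComplex X.Modules ℤ) :=
  NatIso.mapHomologicalComplex
      (Groth.Agent.Lib.Helper13.ModSiteUnitor.rightUnitorIso X.sheaf) (ComplexShape.up ℤ) ≪≫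
    Functor.mapHomologicalComplexIdIso _ (ComplexShape.up ℤ)

/-- `singleIso` as a natural isomorphism -/
noncomputable def singleNatIso (G : X.Modules) :
    ((DCoh.tensorBi (X := X)).flip.obj G).mapHomologicalComplex (ComplexShape.up ℤ) ≅
      (DCoh.tensorCx (X := X)).flip.obj (sgl G) :=
  NatIso.ofComponents (fun P => singleIso (DCoh.tensorBi (X := X)) P G)
    (fun {P P'} f => singleIso_hom_naturality (DCoh.tensorBi (X := X)) f G)

/-- `P ≅ P ⊗ O_X[0]`, naturally -/
noncomputable def unitChainIso :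
    𝟭 (CochainComplex X.Modules ℤ) ≅
      (DCoh.tensorCx (X := X)).flip.obj (sgl (ModSite.unit X.sheaf)) :=
  tensorUnitNatIso.symm ≪≫ singleNatIso _

noncomputable def unitβ :
    DerivedCategory.Q ⋙ 𝟭 (DCoh.D X) ≅ DCoh.tensorCxQ (sgl (ModSite.unit X.sheaf)) :=
  Functor.rightUnitor _ ≪≫ (Functor.leftUnitor _).symm ≪≫
    Functor.isoWhiskerRight unitChainIso DerivedCategory.Q

/-- `- ⊗^L O_X ≅ id` -/
noncomputable def unitLIso : 𝟭 (DCoh.D X) ≅ DCoh.LTensorCx (sgl (ModSite.unit X.sheaf)) :=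
  (adapted_tensorCxQ _).isoTotalLeftDerived (𝟭 _) (unitβ (X := X)).hom
    (fun _ _ => inferInstance)

theorem presQC_unit : PresQC (sgl (ModSite.unit X.sheaf) : CochainComplex X.Modules ℤ) :=
  presQC_of_adj (𝟭 _) (Adjunction.id.ofNatIsoLeft unitLIso) (fun _ hL => hL)

end Unit

section Shift

/-- `P ⊗ K[y] ≅ (P ⊗ K)[y]`, naturally in `P` -/
noncomputable def shiftChainIso (K : CochainComplex X.Modules ℤ) (y : ℤ) :
    (DCoh.tensorCx (X := X)).flip.obj (K⟦y⟧) ≅
      (DCoh.tensorCx (X := X)).flip.obj K ⋙ shiftFunctor (CochainComplex X.Modules ℤ) y :=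
  NatIso.ofComponents (fun P => ((DCoh.tensorCx.obj P).commShiftIso y).app K)
    (fun {P P'} f => (NatTrans.shift_app_comm ((DCoh.tensorCx (X := X)).map f) y K).symm)

noncomputable def shiftQIso (K : CochainComplex X.Modules ℤ) (y : ℤ) :
    DCoh.tensorCxQ K ⋙ shiftFunctor (DCoh.D X) y ≅ DCoh.tensorCxQ (K⟦y⟧) :=
  Functor.associator _ _ _ ≪≫
    Functor.isoWhiskerLeft _ ((DerivedCategory.Q (C := X.Modules)).commShiftIso y).symm ≪≫
    (Functor.associator _ _ _).symm ≪≫
    Functor.isoWhiskerRight (shiftChainIso K y).symm DerivedCategory.Q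

noncomputable def counitShiftY (K : CochainComplex X.Modules ℤ) (y : ℤ) :
    DerivedCategory.Q ⋙ (DCoh.LTensorCx K ⋙ shiftFunctor (DCoh.D X) y) ⟶
      DCoh.tensorCxQ (K⟦y⟧) :=
  (Functor.associator _ _ _).inv ≫ Functor.whiskerRight (counitT K) (shiftFunctor (DCoh.D X) y) ≫
    (shiftQIso K y).hom

lemma counitShiftY_app (K P : CochainComplex X.Modules ℤ) (y : ℤ) :
    (counitShiftY K y).app P = ((counitT K).app P)⟦y⟧' ≫ (shiftQIso K y).hom.app P := by
  simp [counitShiftY]

/-- `(- ⊗^L K)[y] ≅ - ⊗^L K[y]` -/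
noncomputable def LTshiftIso (K : CochainComplex X.Modules ℤ) (y : ℤ) :
    DCoh.LTensorCx K ⋙ shiftFunctor (DCoh.D X) y ≅ DCoh.LTensorCx (K⟦y⟧) :=
  (adapted_tensorCxQ _).isoTotalLeftDerived _ (counitShiftY K y) (fun P hP => by
    rw [counitShiftY_app]
    haveI := isIso_counitT_app K P hP
    infer_instance)

theorem presQC_shift {K : CochainComplex X.Modules ℤ} (h : PresQC K) (y : ℤ) : PresQC (K⟦y⟧) :=
  presQC_of_adj (shiftFunctor (DCoh.D X) (-y) ⋙ DCoh.RSheafHom K)
    (((DCoh.RSheafHomAdj K).comp (shiftEquiv (DCoh.D X) y).toAdjunction).ofNatIsoLeft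
      (LTshiftIso K y))
    (fun L hL => h _ (isQCohD_shift L hL (-y)))

end Shift

end Groth.Agent.Lib.Helper2.RHom
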