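import Groth.Agent.Lib.Helper2.RHom.EZDerived
import Groth.Agent.Lib.Helper2.Tot.Exact
import Groth.Agent.Lib.Helper2.Tot.Symm

/-!
# Functoriality of `- ⊗^L K` in the complex `K` (helper2)

* `Tmap s : (- ⊗^L K) ⟶ (- ⊗^L K')` for a morphism of complexes `s : K ⟶ K'`, an isomorphism
  when `s` is a quasi-isomorphism;
* for a degreewise split short exact sequence of complexes `0 → F' → F → F'' → 0`, the connecting
  natural transformation `δ : (- ⊗^L F'') ⟶ (- ⊗^L F')[1]` and the distinguished triangles.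
-/

set_option autoImplicit false
universe u
open CategoryTheory CategoryTheory.Limits AlgebraicGeometry HomologicalComplex

namespace Groth.Agent.Lib.Helper2.RHom

open Groth.Agent.Lib.Helper2.Stk Groth.Agent.Lib.Helper2.Stk.LT Groth.Agent.Lib.Helper2.Tot
  Groth.Agent.Lib.Helper2.LDer DerivedCategory Pretriangulated

attribute [local instance] HasDerivedCategory.standard
attribute [local instance] Groth.Agent.Lib.Helper2.Stk.LT.hasLTensorCx

variable {X : Scheme.{u}}

/-- the quasi-isomorphisms of complexes of `O_X`-modules -/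
abbrev WX (X : Scheme.{u}) : MorphismProperty (CochainComplex X.Modules ℤ) :=
  HomologicalComplex.quasiIso X.Modules (ComplexShape.up ℤ)

section Tmap

variable {K K' K'' : CochainComplex X.Modules ℤ}

/-- `(- ⊗ K) ⋙ Q` is functorial in `K` -/
noncomputable def tqMap (s : K ⟶ K') : DCoh.tensorCxQ K ⟶ DCoh.tensorCxQ K' :=
  Functor.whiskerRight ((DCoh.tensorCx (X := X)).flip.map s) DerivedCategory.Q

lemma tqMap_app (s : K ⟶ K') (P : CochainComplex X.Modules ℤ) :
    (tqMap s).app P = Q.map ((DCoh.tensorCx.obj P).map s) := rfl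

lemma tqMap_comp (s : K ⟶ K') (t : K' ⟶ K'') : tqMap s ≫ tqMap t = tqMap (s ≫ t) := by
  ext P
  rw [NatTrans.comp_app, tqMap_app, tqMap_app, tqMap_app, ← Functor.map_comp, ← Functor.map_comp]

/-- `- ⊗^L K` is functorial in `K` -/
noncomputable def Tmap (s : K ⟶ K') : DCoh.LTensorCx K ⟶ DCoh.LTensorCx K' :=
  Functor.leftDerivedNatTrans (DCoh.LTensorCx K) (DCoh.LTensorCx K') (counitT K) (counitT K')
    (WX X) (tqMap s)

lemma Tmap_fac_app (s : K ⟶ K') (P : CochainComplex X.Modules ℤ) :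
    (Tmap s).app (Q.obj P) ≫ (counitT K').app P =
      (counitT K).app P ≫ Q.map ((DCoh.tensorCx.obj P).map s) :=
  Functor.leftDerivedNatTrans_app (DCoh.LTensorCx K) (DCoh.LTensorCx K') (counitT K) (counitT K')
    (WX X) (tqMap s) P

lemma Tmap_comp (s : K ⟶ K') (t : K' ⟶ K'') : Tmap s ≫ Tmap t = Tmap (s ≫ t) := by
  unfold Tmap
  rw [Functor.leftDerivedNatTrans_comp, tqMap_comp]

/-- every object of `D(O_X)` is the image of a good complex -/
lemma exists_good_iso (A : DCoh.D X) :
    ∃ (P : CochainComplex X.Modules ℤ), DC.Good P ∧ Nonempty (Q.obj P ≅ A) := by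
  obtain ⟨P, s, hP, _, _, hs, _⟩ := DC.exists_good_resolution (Q.objPreimage A)
  haveI : IsIso (Q.map s) := (isIso_Q_map_iff_quasiIso _ s).2 hs
  exact ⟨P, hP, ⟨asIso (Q.map s) ≪≫ Q.objObjPreimageIso A⟩⟩

theorem isIso_Tmap_of_quasiIso (s : K ⟶ K') [QuasiIso s] : IsIso (Tmap s) := by
  haveI : ∀ A, IsIso ((Tmap s).app A) := by
    intro A
    obtain ⟨P, hP, ⟨e⟩⟩ := exists_good_iso A
    haveI : IsIso ((Tmap s).app (Q.obj P)) := by
      haveI := isIso_counitT_app K P hP
      haveI := isIso_counitT_app K' P hP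
      haveI : QuasiIso ((DCoh.tensorCx.obj P).map s) :=
        Tot.quasiIso_map₂_of_kflat_flip (F := DCoh.tensorBi (X := X)) hP s
      haveI : IsIso (Q.map ((DCoh.tensorCx.obj P).map s)) :=
        (isIso_Q_map_iff_quasiIso _ _).2 inferInstance
      have h := Tmap_fac_app s P
      have h2 : (Tmap s).app (Q.obj P) = ((counitT K).app P ≫
          Q.map ((DCoh.tensorCx.obj P).map s)) ≫ inv ((counitT K').app P) := by
        rw [← h, Category.assoc, IsIso.hom_inv_id, Category.comp_id]
      rw [h2]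
      infer_instance
    exact (NatTrans.isIso_app_iff_of_iso _ e).1 inferInstance
  exact NatIso.isIso_of_isIso_app _

/-- `- ⊗^L K` only depends on the image of `K` in the derived category -/
theorem nonempty_LTensorCx_iso_of_iso (e : DCoh.toD X K ≅ DCoh.toD X K') :
    Nonempty (DCoh.LTensorCx K ≅ DCoh.LTensorCx K') := by
  obtain ⟨K₀, s, hs, g, hg⟩ := DerivedCategory.right_fac e.hom
  haveI : IsIso (Q.map s) := hs
  haveI : QuasiIso s := (isIso_Q_map_iff_quasiIso _ s).1 hs
  haveI : IsIso (Q.map g) := by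
    have : Q.map g = Q.map s ≫ e.hom := by rw [hg, IsIso.hom_inv_id_assoc]
    rw [this]
    infer_instance
  haveI : QuasiIso g := (isIso_Q_map_iff_quasiIso _ g).1 inferInstance
  haveI := isIso_Tmap_of_quasiIso s
  haveI := isIso_Tmap_of_quasiIso g
  exact ⟨(asIso (Tmap s)).symm ≪≫ asIso (Tmap g)⟩

end Tmap

section SES

variable (S : ShortComplex (CochainComplex X.Modules ℤ))
  (hsplit : ∀ q : ℤ, Nonempty (S.map (eval X.Modules (ComplexShape.up ℤ) q)).Splitting)

include hsplit in
lemma shortExact_tensor_left (P : CochainComplex X.Modules ℤ) :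
    (S.map (DCoh.tensorCx.obj P)).ShortExact :=
  Tot.shortExact_map₂ (F := DCoh.tensorBi (X := X)) P S (fun p q => by
    obtain ⟨σ⟩ := hsplit q
    exact (σ.map ((DCoh.tensorBi (X := X)).obj (P.X p))).shortExact)

/-- the chain level connecting morphism -/
noncomputable def δchain :
    DCoh.tensorCxQ S.X₃ ⟶ DCoh.tensorCxQ S.X₁ ⋙ shiftFunctor (DCoh.D X) (1 : ℤ) where
  app P := triangleOfSESδ (shortExact_tensor_left S hsplit P)
  naturality P P' u := by
    have h := triangleOfSESδ_naturality (shortExact_tensor_left S hsplit P)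
      (shortExact_tensor_left S hsplit P') (S.mapNatTrans ((DCoh.tensorCx (X := X)).map u))
    exact h.symm

/-- the counit exhibiting `(- ⊗^L F')[1]` as a left derived functor -/
noncomputable def counitShift (E : CochainComplex X.Modules ℤ) :
    DerivedCategory.Q ⋙ (DCoh.LTensorCx E ⋙ shiftFunctor (DCoh.D X) (1 : ℤ)) ⟶
      DCoh.tensorCxQ E ⋙ shiftFunctor (DCoh.D X) (1 : ℤ) :=
  (Functor.associator _ _ _).inv ≫ Functor.whiskerRight (counitT E) (shiftFunctor (DCoh.D X) (1 : ℤ))

lemma counitShift_app (E P : CochainComplex X.Modules ℤ) :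
    (counitShift E).app P = ((counitT E).app P)⟦(1 : ℤ)⟧' := by
  simp [counitShift]

instance isLeftDerivedFunctor_shift (E : CochainComplex X.Modules ℤ) :
    (DCoh.LTensorCx E ⋙ shiftFunctor (DCoh.D X) (1 : ℤ)).IsLeftDerivedFunctor (counitShift E)
      (WX X) :=
  ((adapted_tensorCxQ E).comp (shiftFunctor (DCoh.D X) (1 : ℤ))).isLeftDerivedFunctor_of_isIso _ _
    (fun P hP => by
      rw [counitShift_app]
      haveI := isIso_counitT_app E P hP
      infer_instance)

/-- the connecting natural transformation `(- ⊗^L F'') ⟶ (- ⊗^L F')[1]` -/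
noncomputable def δT : DCoh.LTensorCx S.X₃ ⟶ DCoh.LTensorCx S.X₁ ⋙ shiftFunctor (DCoh.D X) (1 : ℤ) :=
  Functor.leftDerivedLift (DCoh.LTensorCx S.X₁ ⋙ shiftFunctor (DCoh.D X) (1 : ℤ)) (counitShift S.X₁)
    (WX X) (DCoh.LTensorCx S.X₃) (counitT S.X₃ ≫ δchain S hsplit)

lemma δT_fac_app (P : CochainComplex X.Modules ℤ) :
    (δT S hsplit).app (Q.obj P) ≫ ((counitT S.X₁).app P)⟦(1 : ℤ)⟧' =
      (counitT S.X₃).app P ≫ triangleOfSESδ (shortExact_tensor_left S hsplit P) := by
  have h := Functor.leftDerived_fac_app (DCoh.LTensorCx S.X₁ ⋙ shiftFunctor (DCoh.D X) (1 : ℤ))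
    (counitShift S.X₁) (WX X) (DCoh.LTensorCx S.X₃) (counitT S.X₃ ≫ δchain S hsplit) P
  rw [counitShift_app] at h
  exact h

/-- the triangle `A ⊗^L F' → A ⊗^L F → A ⊗^L F'' → (A ⊗^L F')[1]` -/
noncomputable def triT (A : DCoh.D X) : Triangle (DCoh.D X) :=
  Triangle.mk ((Tmap S.f).app A) ((Tmap S.g).app A) ((δT S hsplit).app A)

/-- the triangles `triT` are natural in `A` -/
noncomputable def triTIso {A B : DCoh.D X} (e : A ≅ B) : triT S hsplit A ≅ triT S hsplit B :=
  Triangle.isoMk _ _ ((DCoh.LTensorCx S.X₁).mapIso e) ((DCoh.LTensorCx S.X₂).mapIso e)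
    ((DCoh.LTensorCx S.X₃).mapIso e)
    (by exact ((Tmap S.f).naturality e.hom).symm)
    (by exact ((Tmap S.g).naturality e.hom).symm)
    (by exact ((δT S hsplit).naturality e.hom).symm)

theorem triT_distinguished (A : DCoh.D X) : triT S hsplit A ∈ distTriang (DCoh.D X) := by
  obtain ⟨P, hP, ⟨e⟩⟩ := exists_good_iso A
  refine isomorphic_distinguished _ ?_ _ (triTIso S hsplit e.symm)
  refine isomorphic_distinguished _
    (triangleOfSES_distinguished (shortExact_tensor_left S hsplit P)) _ ?_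
  have h₁ := isIso_counitT_app S.X₁ P hP
  have h₂ := isIso_counitT_app S.X₂ P hP
  have h₃ := isIso_counitT_app S.X₃ P hP
  refine Triangle.isoMk _ _ (@asIso _ _ _ _ ((counitT S.X₁).app P) h₁)
    (@asIso _ _ _ _ ((counitT S.X₂).app P) h₂)
    (@asIso _ _ _ _ ((counitT S.X₃).app P) h₃) ?_ ?_ ?_
  · exact Tmap_fac_app S.f P
  · exact Tmap_fac_app S.g P
  · exact δT_fac_app S hsplit P

end SES

end Groth.Agent.Lib.Helper2.RHom
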