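import Groth.Agent.Lib.Helper2.RHom.WeakTri
import Groth.Agent.Lib.Helper2.RHom.CohClass
import Groth.Agent.Lib.Helper2.Mon.PerfTensor
import Groth.Agent.Lib.Helper2.Mon.TensorSymm
import Groth.Agent.S1103
import Groth.Agent.S0914
import Groth.Agent.S1039

/-!
# `D^-_Coh ⊗^L D^-_Coh ⊆ D^-_Coh` on locally Noetherian schemes (helper2)

Both factors are approximated by perfect complexes; the tensor product of perfect complexes is
perfect, hence has coherent cohomology.
-/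

set_option autoImplicit false
universe u
open CategoryTheory CategoryTheory.Limits AlgebraicGeometry HomologicalComplex

namespace Groth.Agent.Lib.Helper2.RHom

open Groth.Agent.Lib.Helper2.Stk Groth.Agent.Lib.Helper2.Stk.LT Groth.Agent.Lib.Helper2.Tot
  Groth.Agent.Lib.Helper2.LDer DerivedCategory Pretriangulated
  Groth.Agent.Lib.Helper2.Aff Groth.Agent.Lib.Helper2.TExactIso
  Groth.Agent.Lib.Helper2.Mon

attribute [local instance] HasDerivedCategory.standard

local notation "cc" => ComplexShape.up ℤ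

variable {X : Scheme.{u}}

/-- restriction to an open commutes with `⊗^L` -/
theorem nonempty_restrict_LTensorCx_iso (V : X.Opens) (E : CochainComplex X.Modules ℤ)
    [DCoh.HasLTensorCx E] [DCoh.HasLTensorCx ((resC V).obj E)] (L : DCoh.D X) :
    Nonempty ((DCoh.restrictD V.ι).obj ((DCoh.LTensorCx E).obj L) ≅
      (DCoh.LTensorCx ((resC V).obj E)).obj ((DCoh.restrictD V.ι).obj L)) := by
  obtain ⟨P, hP, ⟨eL⟩⟩ := exists_good_iso L
  let rj := (Scheme.Modules.restrictFunctor V.ι).mapHomologicalComplex cc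
  have hgP : DC.Good (rj.obj P) := good_restrict V.ι P hP
  let e0 : (DCoh.LTensorCx E).obj L ≅ DCoh.toD X ((DCoh.tensorCx.obj P).obj E) :=
    (DCoh.LTensorCx E).mapIso eL.symm ≪≫ LT.LTensorCxIso E P hP
  let e1 : (DCoh.restrictD V.ι).obj (DCoh.toD X ((DCoh.tensorCx.obj P).obj E)) ≅
      DCoh.toD _ ((DCoh.tensorCx.obj (rj.obj P)).obj (rj.obj E)) :=
    (Scheme.Modules.restrictFunctor V.ι).mapDerivedCategoryFactors.app _ ≪≫
      DerivedCategory.Q.mapIso (resTensorCxIso V.ι P E).symm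
  let e2 : (DCoh.LTensorCx (rj.obj E)).obj (DCoh.toD _ (rj.obj P)) ≅
      DCoh.toD _ ((DCoh.tensorCx.obj (rj.obj P)).obj (rj.obj E)) :=
    LT.LTensorCxIso (rj.obj E) (rj.obj P) hgP
  let e3 : DCoh.toD _ (rj.obj P) ≅ (DCoh.restrictD V.ι).obj L :=
    ((Scheme.Modules.restrictFunctor V.ι).mapDerivedCategoryFactors.app P).symm ≪≫
      (DCoh.restrictD V.ι).mapIso eL
  exact ⟨(DCoh.restrictD V.ι).mapIso e0 ≪≫ e1 ≪≫ e2.symm ≪≫
    (DCoh.LTensorCx (rj.obj E)).mapIso e3⟩

/-- symmetry of `⊗^L` when one factor is K-flat -/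
theorem nonempty_LTensorCx_symm (E P : CochainComplex X.Modules ℤ) (hP : DC.Good P)
    [DCoh.HasLTensorCx E] [DCoh.HasLTensorCx P] :
    Nonempty ((DCoh.LTensorCx E).obj (DCoh.toD X P) ≅ (DCoh.LTensorCx P).obj (DCoh.toD X E)) := by
  have hk : KFlat (DCoh.tensorBi (X := X)) P := (Mon.good_iff_kflat P).1 hP
  haveI : IsIso ((counitT P).app E) :=
    (adapted_tensorCxQ_of_kflat P hk).isIso_app (DCoh.LTensorCx P) _ trivial
  exact ⟨LT.LTensorCxIso E P hP ≪≫ DerivedCategory.Q.mapIso (Mon.symmCxIso E P) ≪≫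
    (asIso ((counitT P).app E)).symm⟩

/-- perfect objects on Noetherian schemes have coherent cohomology -/
theorem isCohD_of_isPerfect [IsNoetherian X] (P : DCoh.D X) (hP : DCoh.IsPerfect P) :
    DCoh.IsCohD P := by
  intro i
  have hq := Aff.HomVan.isQCohD_of_isPerfect P hP
  have hpc := ((Groth.Agent.S0914.result P).1 hP).1 i
  exact ((Groth.Agent.S1039.result X P hq i).1 hpc).1 i le_rfl

open Groth.Agent.Lib.Helper13.GoodMap in
/-- the Noetherian (quasi-compact) case -/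
theorem isCoh_HD_LTensorCx_of_noetherian [IsNoetherian X] (E : CochainComplex X.Modules ℤ)
    [DCoh.HasLTensorCx E] (b : ℤ) (hEb : (DCoh.toD X E).IsLE b)
    (hE : DCoh.IsCohD (DCoh.toD X E)) (L : DCoh.D X) (a : ℤ) (hLa : L.IsLE a)
    (hL : DCoh.IsCohD L) (n : ℤ) :
    Coh.IsCoh (DCoh.HD ((DCoh.LTensorCx E).obj L) n) := by
  have hX : cohClass.S X := inferInstanceAs (IsLocallyNoetherian X)
  have hLq : DCoh.IsQCohD L := fun i => (hL i).1
  have hEq : DCoh.IsQCohD (DCoh.toD X E) := fun i => (hE i).1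
  have hLpc : ∀ m, DCoh.IsPseudoCoherentD m L := fun m =>
    (Groth.Agent.S1039.result X L hLq m).2 ⟨fun i _ => hL i, ⟨a, hLa⟩⟩
  have hEpc : ∀ m, DCoh.IsPseudoCoherentD m (DCoh.toD X E) := fun m =>
    (Groth.Agent.S1039.result X _ hEq m).2 ⟨fun i _ => hE i, ⟨b, hEb⟩⟩
  obtain ⟨r, hr⟩ := Groth.Agent.S1103.result X Set.univ isClosed_univ (by simp)
  -- first approximation
  obtain ⟨P, α, hP, -, hiso, hepi⟩ := hr (n - b - 1) L hLq (hLpc _)
    (fun _ _ => Set.subset_univ _)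
  have h1 := good_LTensorCx_map (K := E) b hEb α (n - b - 1) ⟨hiso, hepi⟩
  haveI i1 : IsIso ((DerivedCategory.homologyFunctor _ n).map ((DCoh.LTensorCx E).map α)) :=
    h1.1 n (by omega)
  have hPle : P.IsLE (max a (n - b - 1)) := by
    rw [DerivedCategory.isLE_iff]
    intro i hi
    haveI := hiso i (lt_of_le_of_lt (le_max_right _ _) hi)
    exact IsZero.of_iso (DerivedCategory.isZero_of_isLE L a i
      (lt_of_le_of_lt (le_max_left _ _) hi))
      (asIso ((DerivedCategory.homologyFunctor _ i).map α))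
  obtain ⟨P₀, hP₀, ⟨eP⟩⟩ := exists_good_iso P
  haveI := LT.hasLTensorCx P₀
  obtain ⟨es⟩ := nonempty_LTensorCx_symm E P₀ hP₀
  -- second approximation
  obtain ⟨P', β, hP', -, hiso', hepi'⟩ := hr (n - max a (n - b - 1) - 1) (DCoh.toD X E) hEq
    (hEpc _) (fun _ _ => Set.subset_univ _)
  have hP₀le : (DCoh.toD X P₀).IsLE (max a (n - b - 1)) :=
    haveI := hPle
    TStructure.t.isLE_of_iso eP.symm _
  have h2 := good_LTensorCx_map (K := P₀) _ hP₀le β _ ⟨hiso', hepi'⟩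
  haveI i2 : IsIso ((DerivedCategory.homologyFunctor _ n).map ((DCoh.LTensorCx P₀).map β)) :=
    h2.1 n (by omega)
  have hperf : DCoh.IsPerfect ((DCoh.LTensorCx P₀).obj P') :=
    Mon.isPerfect_LTensorCx P₀ (Groth.Agent.Lib.Helper13.PerfTri.isPerfect_of_iso eP.symm hP) P' hP'
  have hc := isCohD_of_isPerfect _ hperf n
  let ε : DCoh.HD ((DCoh.LTensorCx P₀).obj P') n ≅ DCoh.HD ((DCoh.LTensorCx E).obj L) n :=
    asIso ((DerivedCategory.homologyFunctor _ n).map ((DCoh.LTensorCx P₀).map β)) ≪≫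
      (DerivedCategory.homologyFunctor _ n).mapIso (es.symm ≪≫ (DCoh.LTensorCx E).mapIso eP) ≪≫
      asIso ((DerivedCategory.homologyFunctor _ n).map ((DCoh.LTensorCx E).map α))
  exact LocClass.prop_of_iso (𝒞 := cohClass) hX ε hc

/-- **`L ⊗^L E ∈ D_Coh` for `L, E ∈ D^-_Coh`** on a locally Noetherian scheme -/
theorem isCohD_LTensorCx [IsLocallyNoetherian X] (E : CochainComplex X.Modules ℤ)
    [DCoh.HasLTensorCx E] (b : ℤ) (hEb : (DCoh.toD X E).IsLE b)
    (hE : DCoh.IsCohD (DCoh.toD X E)) (L : DCoh.D X) (a : ℤ) (hLa : L.IsLE a)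
    (hL : DCoh.IsCohD L) : DCoh.IsCohD ((DCoh.LTensorCx E).obj L) := by
  intro n
  have hX : cohClass.S X := ‹IsLocallyNoetherian X›
  refine cohClass.of_cover hX _ (fun x => ?_)
  obtain ⟨V, hV, hxV⟩ : ∃ V : X.Opens, IsAffineOpen V ∧ x ∈ V := by
    obtain ⟨V, hV, hxV, -⟩ := TopologicalSpace.Opens.isBasis_iff_nbhd.mp X.isBasis_affineOpens
      (show x ∈ (⊤ : X.Opens) from trivial)
    exact ⟨V, hV, hxV⟩
  refine ⟨V, hxV, ?_⟩
  haveI : IsAffine (V : Scheme.{u}) := hV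
  haveI : IsNoetherian (V : Scheme.{u}) := { }
  have hV' : cohClass.S (V : Scheme.{u}) := cohClass.S_open V hX
  haveI := LT.hasLTensorCx ((resC V).obj E)
  let e : DCoh.toD (↑V) ((resC V).obj E) ≅ (DCoh.restrictD V.ι).obj (DCoh.toD X E) :=
    ((Scheme.Modules.restrictFunctor V.ι).mapDerivedCategoryFactors.app E).symm
  have h1 : LocClass.IsPD cohClass ((DCoh.restrictD V.ι).obj (DCoh.toD X E)) :=
    LocClass.isPD_restrictD (𝒞 := cohClass) hX hE V
  have h2 : LocClass.IsPD cohClass (DCoh.toD (↑V) ((resC V).obj E)) :=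
    LocClass.isPD_of_iso (𝒞 := cohClass) hV' e.symm h1
  have h3 : (DCoh.toD (↑V) ((resC V).obj E)).IsLE b :=
    haveI := isLE_restrictD V _ b hEb
    TStructure.t.isLE_of_iso e.symm b
  have h4 := isCoh_HD_LTensorCx_of_noetherian ((resC V).obj E) b h3 h2
    ((DCoh.restrictD V.ι).obj L) a (isLE_restrictD V L a hLa)
    (LocClass.isPD_restrictD (𝒞 := cohClass) hX hL V) n
  obtain ⟨e5⟩ := nonempty_restrict_LTensorCx_iso V E L
  obtain ⟨e6⟩ := Groth.Agent.Lib.Helper13.OpenEquivSupp.nonempty_HD_restrictD_iso V.ι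
    ((DCoh.LTensorCx E).obj L) n
  exact LocClass.prop_of_iso (𝒞 := cohClass) hV'
    ((DerivedCategory.homologyFunctor _ n).mapIso e5.symm ≪≫ e6) h4

end Groth.Agent.Lib.Helper2.RHom
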