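import Groth.Agent.Lib.Helper2.RHom.Amp
import Groth.Agent.Lib.Helper2.Stk.DerivedTri

/-!
# `- ⊗^L K` sends distinguished triangles to distinguished triangles (helper2)
-/

set_option autoImplicit false
universe u
open CategoryTheory CategoryTheory.Limits AlgebraicGeometry HomologicalComplex

namespace Groth.Agent.Lib.Helper2.RHom

open Groth.Agent.Lib.Helper2.Stk Groth.Agent.Lib.Helper2.Stk.LT Groth.Agent.Lib.Helper2.Tot
  Groth.Agent.Lib.Helper2.LDer DerivedCategory Pretriangulated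

attribute [local instance] HasDerivedCategory.standard
attribute [local instance] Groth.Agent.Lib.Helper2.Stk.LT.hasLTensorCx

lemma aux_comm {C : Type*} [Category C] [HasShift C ℤ] {A B Z W : C} (e : A ≅ B) (a : W ⟶ Z)
    (x : Z ⟶ B⟦(1 : ℤ)⟧) :
    (a ≫ x ≫ (e.inv)⟦(1 : ℤ)⟧') ≫ (e.hom)⟦(1 : ℤ)⟧' = a ≫ x := by
  rw [Category.assoc, Category.assoc, ← Functor.map_comp, Iso.inv_hom_id,
    CategoryTheory.Functor.map_id, Category.comp_id]

variable {X : Scheme.{u}} (K : CochainComplex X.Modules ℤ)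

/-- `- ⊗^L K` sends a distinguished triangle to a distinguished triangle, for a suitable third
morphism -/
theorem exists_distinguished_LTensorCx (T : Triangle (DCoh.D X))
    (hT : T ∈ distTriang (DCoh.D X)) :
    ∃ δ : (DCoh.LTensorCx K).obj T.obj₃ ⟶ ((DCoh.LTensorCx K).obj T.obj₁)⟦(1 : ℤ)⟧,
      Triangle.mk ((DCoh.LTensorCx K).map T.mor₁) ((DCoh.LTensorCx K).map T.mor₂) δ ∈
        distTriang (DCoh.D X) := by
  obtain ⟨S, hS, hsplit, g₁, g₂, g₃, ⟨i⟩⟩ := exists_ses_of_distinguished' T hT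
  let G := (DCoh.tensorCx (X := X)).flip.obj K
  have hS' : (S.map G).ShortExact :=
    Tot.shortExact_map₁ (F := DCoh.tensorBi (X := X)) K S (fun p q => by
      obtain ⟨σ⟩ := hsplit p
      exact (σ.map ((DCoh.tensorBi (X := X)).flip.obj (K.X q))).shortExact)
  have hT' := triangleOfSES_distinguished hS'
  let TK := DCoh.LTensorCx K
  have i₁ := isIso_counitT_app K S.X₁ g₁
  have i₂ := isIso_counitT_app K S.X₂ g₂
  have i₃ := isIso_counitT_app K S.X₃ g₃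
  let j₁ : T.obj₁ ≅ Q.obj S.X₁ := (Triangle.π₁.mapIso i).symm
  let j₂ : T.obj₂ ≅ Q.obj S.X₂ := (Triangle.π₂.mapIso i).symm
  let j₃ : T.obj₃ ≅ Q.obj S.X₃ := (Triangle.π₃.mapIso i).symm
  have k₁ : T.mor₁ ≫ j₂.hom = j₁.hom ≫ Q.map S.f := i.inv.comm₁
  have k₂ : T.mor₂ ≫ j₃.hom = j₂.hom ≫ Q.map S.g := i.inv.comm₂
  let u₁ : TK.obj T.obj₁ ≅ Q.obj (G.obj S.X₁) :=
    TK.mapIso j₁ ≪≫ @asIso _ _ _ _ ((counitT K).app S.X₁) i₁
  let u₂ : TK.obj T.obj₂ ≅ Q.obj (G.obj S.X₂) :=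
    TK.mapIso j₂ ≪≫ @asIso _ _ _ _ ((counitT K).app S.X₂) i₂
  let u₃ : TK.obj T.obj₃ ≅ Q.obj (G.obj S.X₃) :=
    TK.mapIso j₃ ≪≫ @asIso _ _ _ _ ((counitT K).app S.X₃) i₃
  have n₁ : TK.map (Q.map S.f) ≫ (counitT K).app S.X₂ =
      (counitT K).app S.X₁ ≫ Q.map (G.map S.f) := (counitT K).naturality S.f
  have n₂ : TK.map (Q.map S.g) ≫ (counitT K).app S.X₃ =
      (counitT K).app S.X₂ ≫ Q.map (G.map S.g) := (counitT K).naturality S.g
  have c₁ : TK.map T.mor₁ ≫ u₂.hom = u₁.hom ≫ Q.map (G.map S.f) := by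
    simp only [u₁, u₂, Iso.trans_hom, Functor.mapIso_hom, asIso_hom, Category.assoc]
    rw [← Functor.map_comp_assoc, k₁, Functor.map_comp_assoc, n₁]
  have c₂ : TK.map T.mor₂ ≫ u₃.hom = u₂.hom ≫ Q.map (G.map S.g) := by
    simp only [u₂, u₃, Iso.trans_hom, Functor.mapIso_hom, asIso_hom, Category.assoc]
    rw [← Functor.map_comp_assoc, k₂, Functor.map_comp_assoc, n₂]
  refine ⟨u₃.hom ≫ (triangleOfSES hS').mor₃ ≫ (u₁.inv)⟦(1 : ℤ)⟧', ?_⟩
  refine isomorphic_distinguished _ hT' _ (Triangle.isoMk _ _ u₁ u₂ u₃ c₁ c₂ ?_)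
  exact aux_comm u₁ u₃.hom (triangleOfSES hS').mor₃

open Groth.Agent.Lib.Helper13.GoodMap Groth.Agent.Lib.Helper2.RightTri in
/-- right t-exactness of `- ⊗^L K` on "good" morphisms -/
theorem good_LTensorCx_map (b : ℤ) (hK : (DCoh.toD X K).IsLE b) {A B : DCoh.D X} (α : A ⟶ B)
    (m : ℤ) (hα : Good m α) : Good (m + b) ((DCoh.LTensorCx K).map α) := by
  obtain ⟨C, g, h, hT⟩ := distinguished_cocone_triangle α
  have hC := (cone_vanish_iff _ hT m).1 hα
  have hCle : C.IsLE (m - 1) := (DerivedCategory.isLE_iff C (m - 1)).2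
    (fun i hi => hC i (by omega))
  obtain ⟨δ, hT'⟩ := exists_distinguished_LTensorCx K _ hT
  have hle := isLE_LTensorCx_obj K b hK C (m - 1) hCle
  refine (cone_vanish_iff _ hT' (m + b)).2 (fun i hi => ?_)
  exact DerivedCategory.isZero_of_isLE ((DCoh.LTensorCx K).obj C) (m - 1 + b) i (by omega)
    (hX := hle)

end Groth.Agent.Lib.Helper2.RHom
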